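import Cfsg.Agent.TH.Cl.FldLU.Sing
import Cfsg.Agent.SB.Fld.Rows
import Cfsg.Agent.H616.ExtPSL
import Cfsg.Agent.H616.ExtPSU

/-!
# S3541, linear and unitary groups: the boxes `BoxFldL`, `BoxFldU` (helper9)
-/

set_option autoImplicit false

namespace Cfsg.Agent.TH.Cl

open Cfsg.Agent.DS.Cl Cfsg.Agent.DS.Cl.Fwd Cfsg.Agent.SB.Cl Cfsg.Agent.SB.C2 Cfsg.Agent.SB.Fld Module

namespace Fld

variable {A : Type} [Ring A] [StarRing A] {K V : Type} [Field K] [AddCommGroup V] [Module K V]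
  {π : A →+* End K V} {c η θ : A} {W : Subring A} {r : ℕ}

theorem exists_W [Finite A] {F : FR A} {G H : Subgroup (RingAut A)} {m p : ℕ} (cx : Ctx F G H m p) (h : LU π c η θ)
    (hF : FldD H) : ∃ (W : Subring A) (r : ℕ), SymF W r ∧ Inv H W := by
  obtain ⟨hI, Z, hZ, h0, hi⟩ := hF
  rcases exists_symF cx.ss cx.le_SAut hI hZ hi with h1 | ⟨W, r, h1, -, h2⟩
  · have h2 : ∀ z ∈ Z, z + star z ∈ Subring.center A := fun z hz =>
      h1 _ (add_mem hz (hZ.2.1 z hz)) (by rw [star_add, star_star, add_comm])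
    exact absurd (fun z hz => cen_of_tr h (h2 z hz) (h2 _ (mul_mem (hZ.1 (star_cen h.θ_cen)) hz))) h0
  · exact ⟨W, r, h1, h2⟩

theorem card_img (h : LU π c η θ) {Z X : Subring A} (hZ : ComSub Z) {v : V} (hv : ∀ x, ∃ z ∈ Z, π z v = x) (h1 : X ≤ Z)
    (h2 : ∀ x ∈ X, π x = 0 → x = 0) (h3 : ∀ z ∈ Z, ∃ x ∈ X, π x = π z) : Nat.card X = Nat.card V := by
  have _ := h
  refine Nat.card_congr (Equiv.ofBijective (fun x : X => π x v) ⟨fun a b (e : π a v = π b v) => Subtype.ext
    (sub_eq_zero.1 (h2 _ (sub_mem a.2 b.2) (LinearMap.ext fun y => ?_))), fun y => ?_⟩)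
  · obtain ⟨z, hz, rfl⟩ := hv y
    rw [← End.mul_apply, ← map_mul, hZ.2.2 _ (h1 (sub_mem a.2 b.2)) z hz, map_mul, End.mul_apply, map_sub,
      LinearMap.sub_apply, e, sub_self, map_zero, LinearMap.zero_apply]
  · obtain ⟨z, hz, rfl⟩ := hv y
    obtain ⟨x, hx, e⟩ := h3 z hz
    exact ⟨⟨x, hx⟩, by rw [← e]⟩

theorem card_scal [Nontrivial V] (h : LU π c η θ) {X : Subring A} (h1 : X ≤ Subring.center A)
    (h2 : ∀ x ∈ X, π x = 0 → x = 0) (h3 : ∀ z ∈ Subring.center A, ∃ x ∈ X, π x = π z) : Nat.card X = Nat.card K := by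
  refine Nat.card_congr (Equiv.ofBijective (fun x : X => (h.scal_of (h1 x.2)).choose) ⟨fun a b e => Subtype.ext
    (sub_eq_zero.1 (h2 _ (sub_mem a.2 b.2) ?_)), fun k => ?_⟩)
  · rw [map_sub, (h.scal_of (h1 a.2)).choose_spec, (h.scal_of (h1 b.2)).choose_spec, show (h.scal_of (h1 a.2)).choose =
      (h.scal_of (h1 b.2)).choose from e, sub_self]
  · obtain ⟨d, hd, e⟩ := h.exists_cen k
    obtain ⟨x, hx, e'⟩ := h3 d hd
    exact ⟨⟨x, hx⟩, smul_left_injective K (one_ne_zero (α := End K V))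
      ((h.scal_of (h1 hx)).choose_spec.symm.trans (e'.trans e))⟩

variable [Finite A] [Nontrivial A]

omit [Nontrivial A] in
theorem sg_of [Finite V] (h : LU π c η θ) (hW : SymF W r) (h1 : finrank K V = r) (h3 : 3 ≤ r) {v : V}
    (hv : ∀ x, ∃ z ∈ Zt W θ, π z v = x) (hE : ∀ z ∈ Zt W θ, π z ≠ 0 → IsUnit (π z)) : Sg π c η θ W r := by
  have : Nontrivial V := Module.nontrivial_of_finrank_pos (R := K) (by omega)
  have : Finite (End K V) := Finite.of_surjective π h.surj
  obtain ⟨y, hy⟩ := exists_ne (0 : V)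
  refine ⟨h, hW, maxF_of_card (h.img_field (comSub h hW) hE) hy (Nat.card_le_card_of_surjective
    (fun a => (a : End K V) v) fun x => ?_), h1, h3⟩
  obtain ⟨z, hz, e⟩ := hv x
  exact ⟨⟨_, z, hz, rfl⟩, e⟩

theorem SymF.mem_of_quad (h : SymF W r) (h3 : 3 ≤ r) {w t n : A} (hw : w ∈ W) (ht : t ∈ C0 A) (hn : n ∈ C0 A)
    (e : w ^ 2 + (t * w + n) = 0) : w ∈ C0 A := by
  let := (isF_of_le h.isF h.le).isField.toField
  let := h.isF.isField.toField
  let : Algebra (C0 A) W := (Subring.inclusion h.le).toAlgebra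
  have h4 : finrank (C0 A) W = r := Nat.pow_right_injective (two_le_card (C0 A))
    ((Module.natCard_eq_pow_finrank (K := C0 A) (V := W)).symm.trans h.card)
  have h5 := minpoly.degree_dvd (IsIntegral.of_finite (C0 A) (⟨w, hw⟩ : W))
  have h6 := Polynomial.natDegree_le_natDegree (minpoly.min (C0 A) (⟨w, hw⟩ : W)
    (p := Polynomial.X ^ 2 + (Polynomial.C ⟨t, ht⟩ * Polynomial.X + Polynomial.C ⟨n, hn⟩))
    (Polynomial.monic_X_pow_add (Polynomial.degree_linear_lt.trans_le (by norm_num))) (Subtype.ext (by simpa using by exact e)))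
  have h7 := h6.trans (show _ ≤ 2 by compute_degree)
  rw [h4] at h5
  obtain ⟨x, hx⟩ := minpoly.natDegree_eq_one_iff.1 (((Nat.dvd_prime h.prime).1 h5).resolve_right (by omega))
  rw [← show (x : A) = w from congrArg Subtype.val hx]
  exact x.2

/-- the linear case -/
theorem out_L [Finite V] {F : FR A} {G H : Subgroup (RingAut A)} {m p : ℕ} (cx : Ctx F G H m p) (h : LU π c θ θ)
    (h3 : 3 ≤ finrank K V) (hW : SymF W r) (hH : Inv H W) {v : V} (hv : ∀ x, ∃ z ∈ Zt W θ, π z v = x)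
    (ho : OrdF (Nat.card K) (finrank K V) (Nat.card F.S)) (hq : IsPrimePow (Nat.card K)) : False := by
  have : Nontrivial V := Module.nontrivial_of_finrank_pos (R := K) (by omega)
  have a1 : ∀ a b, π (a + b) = π (a + b * θ) := fun a b => by rw [map_add, map_add, map_mul, h.η_one, mul_one]
  have a2 : ∀ z ∈ Zt W θ, ∃ x ∈ W, π x = π z := fun z hz => by
    obtain ⟨a, ha, b, hb, rfl⟩ := (qd h hW).mem_iff.1 hz
    exact ⟨_, add_mem ha hb, a1 a b⟩
  have a3 := card_img h (comSub h hW) hv le_Zt (fun x hx => h.sep_symm (hW.sym x hx)) a2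
  have a4 := card_scal h (X := C0 A) (fun _ hx => hx.1) (fun x hx => h.sep_symm hx.2) fun z hz => by
    obtain ⟨a, ha, b, hb, rfl⟩ := cen_rep h hz
    exact ⟨_, add_mem ha hb, a1 a b⟩
  have a5 : finrank K V = r := Nat.pow_right_injective hq.two_le (by
    change _ ^ _ = _ ^ _
    rw [← Module.natCard_eq_pow_finrank, ← a3, hW.card, a4])
  rw [a5] at ho h3
  have s := sg_of h hW a5 h3 hv fun z hz h0 => by
    obtain ⟨x, hx, e⟩ := a2 z hz
    exact e ▸ (hW.isF.isUnit hx fun e' => h0 (by rw [← e, e', map_zero])).map π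
  refine Out.not_L (a4 ▸ s.out cx hH (fun u hu h1 => ?_) (odd_mm _ (hW.prime.odd_of_ne_two (by omega)))
    (ho.sq_dvd hW.prime h3)) ho hq hW.prime h3
  obtain ⟨w, hw, e⟩ := a2 u hu
  have b1 : IsUnit w := hW.isF.isUnit hw fun e' => by
    have b1 := congrArg π h1
    rw [map_mul, ← e, e', map_zero, zero_mul, map_one] at b1
    exact zero_ne_one b1
  have b2 : mm (Nat.card (C0 A)) r * Nat.card (C0 A) + 1 = mm (Nat.card (C0 A)) r + Nat.card W := by
    have b2 := mm_mul (Nat.card (C0 A)) r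
    have b3 := two_le_card (C0 A)
    have b4 := two_le_card W
    rw [← Nat.cast_pow, ← hW.card, show ((Nat.card (C0 A) : ℤ) - 1).natAbs = Nat.card (C0 A) - 1 by omega,
      Nat.mul_sub_one] at b2
    have b5 := Nat.le_mul_of_pos_right (mm (Nat.card (C0 A)) r) (show 0 < Nat.card (C0 A) by omega)
    omega
  have b3 := mem_of_pow hW.isF hW.le (pow_mem hw (mm (Nat.card (C0 A)) r)) (b1.mul_right_cancel (by
    rw [← pow_mul, ← pow_succ, b2, pow_add, pow_card hW.isF hw]))
  obtain ⟨k, hk⟩ := h.scal_of b3.1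
  refine cen_of_scal h ?_ (k := k) (by rw [← hk, map_pow, map_pow, e, a4])
  rw [star_pow, ← Commute.mul_pow ((comSub h hW).2.2 _ hu _ ((comSub h hW).2.1 _ hu)), h1, one_pow]

/-- the unitary case -/
theorem out_U [Finite V] {F : FR A} {G H : Subgroup (RingAut A)} {m p q : ℕ} (cx : Ctx F G H m p) (h : LU π c η θ)
    (hπ : ∀ x, π x = 0 → x = 0) (h3 : 3 ≤ finrank K V) (hW : SymF W r) (hH : Inv H W) {v : V}
    (hv : ∀ x, ∃ z ∈ Zt W θ, π z v = x) (hK : Nat.card K = q ^ 2) (ho : OrdF (-q) (finrank K V) (Nat.card F.S))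
    (hne : ¬ (finrank K V = 3 ∧ q = 2)) : False := by
  have : Nontrivial V := Module.nontrivial_of_finrank_pos (R := K) (by omega)
  have hZ := comSub h hW
  have hq := qd h hW
  have a1 : Qd (C0 A) θ := ⟨isF_C0 cx.ss, fun _ hx => hx.2, fun x _ => cen_comm h.θ_cen x,
    ⟨add_mem h.θ_cen (star_cen h.θ_cen), by rw [star_add, star_star, add_comm]⟩,
    ⟨mul_mem h.θ_cen (star_cen h.θ_cen), by rw [star_mul, star_star]⟩, h.θ_unit⟩
  have a2 : Zt (C0 A) θ = Subring.center A := le_antisymm (Zt_le (W := C0 A) (fun _ hx => hx.1) h.θ_cen)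
    fun _ hx => a1.mem_iff.2 (cen_rep h hx)
  have a3 := card_img h hZ hv le_rfl (fun x _ => hπ x) fun z hz => ⟨z, hz, rfl⟩
  have a4 := card_scal h le_rfl (fun x _ => hπ x) fun z hz => ⟨z, hz, rfl⟩
  have a5 : Nat.card (C0 A) = q := Nat.pow_left_injective two_ne_zero (by
    change _ ^ _ = _ ^ _
    rw [← a1.card_eq, a2, a4, hK])
  have a6 := a5 ▸ two_le_card (C0 A)
  have a7 : finrank K V = r := Nat.pow_right_injective (show 2 ≤ q ^ 2 by nlinarith) (by
    change _ ^ _ = _ ^ _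
    rw [← hK, ← Module.natCard_eq_pow_finrank, ← a3, hq.card_eq, hW.card, a5, hK, ← pow_mul, ← pow_mul, mul_comm])
  rw [a7] at ho h3 hne
  have a8 : IsF (Zt W θ) := ⟨hq.mul_comm, fun z hz h0 => by
    by_cases h1 : star z * z = 0
    swap
    · obtain ⟨y, hy, -, e⟩ := hq.exists_inv hz h1
      exact ⟨y, hy, e⟩
    exfalso
    obtain ⟨a, ha, b, hb, rfl⟩ := hq.mem_iff.1 hz
    obtain ⟨b', hb', e⟩ := hW.isF.inv b hb fun e => h0 (by
      rw [e, zero_mul, add_zero] at h1 ⊢
      by_contra h2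
      rw [hW.sym a ha] at h1
      exact h2 ((hW.isF.isUnit ha h2).mul_right_eq_zero.1 h1))
    have b1 : a + b * θ = b * (b' * a + θ) := by rw [mul_add, ← mul_assoc, e, one_mul]
    have b2 := mul_mem hb' ha
    generalize b' * a = w at b1 b2
    have b3 : w + θ ∈ Zt W θ := add_mem (le_Zt b2) self_mem_Zt
    have b4 := hW.isF.isUnit hb fun e' => by
      rw [e', zero_mul] at e
      exact zero_ne_one e
    rw [b1, star_mul, hW.sym b hb, hq.mul_comm _ (hq.star_mem _ b3) _ (le_Zt hb), mul_assoc, b4.mul_right_eq_zero,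
      hq.mul_comm _ (le_Zt hb) _ b3, ← mul_assoc, b4.mul_left_eq_zero] at h1
    have b5 := hW.mem_of_quad h3 b2 a1.tr a1.nm (by
      rw [← h1, star_add, hW.sym w b2, ← cen_comm h.θ_cen (star θ), add_mul, add_mul, mul_add, mul_add,
        cen_comm h.θ_cen w, pow_two]
      abel)
    obtain ⟨k, hk⟩ := h.scal_of (add_mem b5.1 h.θ_cen)
    have b6 := congrArg π h1
    rw [map_mul, hk, map_zero, mul_smul_comm, mul_one, smul_eq_zero] at b6
    have b7 : w + θ = 0 := b6.elim (fun e => hπ _ (by rw [hk, e, zero_smul])) fun e => star_eq_zero.1 (hπ _ e)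
    rw [b1, b7, mul_zero] at h0
    exact h0 rfl⟩
  have s := sg_of h hW a7 h3 hv fun z hz h0 => (a8.isUnit hz fun e => h0 (by rw [e, map_zero])).map π
  have a9 := hW.prime.odd_of_ne_two (by omega)
  refine Out.not_U (a5 ▸ s.out cx hH (fun u hu h1 => ?_) (odd_mm _ a9) (ho.sq_dvd hW.prime h3)) ho (by omega) hW.prime h3
  have : Fact p.Prime := ⟨cx.prime⟩
  have : CharP A p := (CharP.charP_iff_prime_eq_zero cx.prime).2 cx.char
  obtain ⟨k, -, hk⟩ := exists_card_prime hW.isF cx.prime cx.char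
  have b0 := hq.star_mem u hu
  have b1 : Commute u (star u) := hq.mul_comm _ hu _ b0
  have b2 : u ^ Nat.card W + star (u ^ Nat.card W) = u + star u := by
    rw [star_pow, ← pow_card hW.isF (hq.trace_mem hu), hk, add_pow_char_pow_of_commute p k b1]
  have b3 : u ^ Nat.card W * star (u ^ Nat.card W) = 1 := by rw [star_pow, ← b1.mul_pow, h1, one_pow]
  have b4 : u ^ Nat.card W = star u := by
    by_cases e : u ^ Nat.card W = u
    · rw [e, hW.sym u (mem_of_pow a8 le_Zt hu e)]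
    have b4 := pow_mem hu (Nat.card W)
    generalize u ^ Nat.card W = y at b2 b3 b4 e
    refine sub_eq_zero.1 ((a8.isUnit (sub_mem b4 hu) (sub_ne_zero.2 e)).mul_right_eq_zero.1 ?_)
    rw [show (y - u) * (y - star u) = y * y - y * star u - u * y + u * star u by noncomm_ring, hq.mul_comm _ hu _ b4,
      sub_sub, ← mul_add, add_comm (star u), ← b2, h1, mul_add, b3]
    abel
  have b5 : mm (-(Nat.card (C0 A) : ℤ)) r * (Nat.card (C0 A) + 1) = Nat.card W + 1 := by
    have b5 := mm_mul (-(Nat.card (C0 A) : ℤ)) r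
    rwa [a9.neg_pow, ← Nat.cast_pow, ← hW.card, show (-(Nat.card (C0 A) : ℤ) - 1).natAbs = Nat.card (C0 A) + 1 by omega,
      show (-(Nat.card W : ℤ) - 1).natAbs = Nat.card W + 1 by omega] at b5
  refine mem_of_pow a8 hZ.1 (pow_mem hu _) ?_
  rw [a4, hK, ← a5, show Nat.card (C0 A) ^ 2 = (Nat.card (C0 A) + 1) * (Nat.card (C0 A) - 1) + 1 by
    obtain ⟨j, hj⟩ : ∃ j, Nat.card (C0 A) = j + 1 := ⟨Nat.card (C0 A) - 1, by omega⟩
    rw [hj, Nat.add_sub_cancel]
    ring, pow_succ, pow_mul, ← pow_mul u, b5, pow_succ' u, b4, h1, one_pow, one_mul]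

end Fld

open Fld

theorem boxFldL : BoxFldL := by
  intro K _ _ n F G H m p k cx hF
  have h := luL (n := n) (K := K)
  have : Finite (LR (Fin n) K) := inferInstanceAs (Finite (_ × _))
  have := cx.ss.nontrivial
  have h3 : 3 ≤ finrank K (Fin n → K) := by simpa using k.dim
  obtain ⟨W, r, hW, hH⟩ := exists_W cx h hF
  let i : Fin n := ⟨0, by have := k.dim; omega⟩
  obtain ⟨v, hv⟩ := span cx h h3 hW hH hF.1 (ρ₀ := LR.mk (Matrix.single i i 1) (Matrix.single i i 1))
    (by rw [LR.star_mk, Matrix.transpose_single]) (v₀ := Pi.single i 1) (f₀ := LinearMap.proj i)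
    (LinearMap.ext fun w => by
      rw [prL_apply, Matrix.toLinAlgEquiv'_apply]
      change (Matrix.single i i (1 : K)).mulVec w = w i • (Pi.single i 1 : Fin n → K)
      rw [Matrix.single_mulVec, one_mul]
      funext j
      by_cases hj : j = i
      · subst hj; simp
      · simp [hj]) (by simp)
  refine out_L cx h h3 hW hH hv ?_ (Nat.card_eq_fintype_card (α := K) ▸ FiniteField.isPrimePow_card K)
  obtain ⟨e⟩ := k.iso
  have h1 := H616.ExtPSL.card_eq (F := K) (n := n) (by have := k.dim; omega)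
  have h2 : ∀ j, ((Fintype.card K : ℤ) ^ j - 1).natAbs = Fintype.card K ^ j - 1 := fun j => by
    have := Nat.one_le_pow j _ (Fintype.card_pos (α := K))
    rw [← Nat.cast_pow]
    omega
  have h4 := h2 1
  rw [pow_one, pow_one] at h4
  simp only [OrdF, Nat.card_congr e.toEquiv, finrank_fin_fun, Nat.card_eq_fintype_card (α := K), h2, h4,
    Int.natAbs_natCast, h1]

theorem boxFldU : BoxFldU := by
  intro K V _ _ _ _ _ f F q G H m p k cx hF
  obtain ⟨hε, θ, hθ⟩ := k.u
  have h := luU f hθ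
  have : Finite f.EB := Finite.of_injective (fun a => (f.ap a : V → V)) fun _ _ e => f.ap_ext (congrFun e)
  have := cx.ss.nontrivial
  have : Nontrivial V := Module.nontrivial_of_finrank_pos (R := K) (by have := k.dim; omega)
  obtain ⟨W, r, hW, hH⟩ := exists_W cx h hF
  obtain ⟨y, hy⟩ : ∃ y, f.b y y ≠ 0 := by
    by_contra hc
    push Not at hc
    obtain ⟨v, hv⟩ := exists_ne (0 : V)
    obtain ⟨u, hu⟩ := f.exists_ne hv
    have h1 := hc (u + v)
    have h2 := hc (θ • u + v)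
    simp only [f.add_left, f.add_right, f.smul_left, f.smul_right, hc, mul_zero, zero_add, add_zero] at h1 h2
    exact mul_ne_zero (sub_ne_zero.2 hθ) hu (by linear_combination f.τ θ * h1 - h2)
  obtain ⟨v, hv⟩ := span cx h k.dim hW hH hF.1 (ρ₀ := f.eb (f.ro y y)) (f.ap_ext fun x => f.ext_right fun u => by
    rw [f.b_star, f.ap_eb, f.ro_apply, f.ro_apply, f.smul_left, f.smul_right, f.swap x y, hε, one_mul, mul_comm])
    (v₀ := y) (f₀ := f.lin y) rfl hy
  refine out_U cx h (fun _ e => e) k.dim hW hH hv (by rw [Nat.card_eq_fintype_card, k.card]) ?_ k.ne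
  obtain ⟨e⟩ := k.iso
  have h1 := H616.ExtPSU.card_eq k.dim k.card
  have h0 : 0 < q := Nat.pos_of_ne_zero fun e => by
    have := k.card
    rw [e] at this
    exact Fintype.card_ne_zero this
  have h2 : ∀ j, ((-q : ℤ) ^ j - 1).natAbs = if Even j then q ^ j - 1 else q ^ j + 1 := fun j => by
    have := Nat.one_le_pow j _ h0
    split_ifs with h3
    · rw [h3.neg_pow, ← Nat.cast_pow]
      omega
    · rw [(Nat.not_even_iff_odd.1 h3).neg_pow, ← Nat.cast_pow]
      omega
  simp only [OrdF, Nat.card_congr e.toEquiv, h2, show (-q - 1 : ℤ).natAbs = q + 1 by omega, Int.natAbs_neg,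
    Int.natAbs_natCast, h1]

end Cfsg.Agent.TH.Cl
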