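import Cfsg.Agent.TH.Cl.FldLU.Zt

/-!
# S3541, linear and unitary groups: an invariant field of symmetric elements belongs to a Singer cycle (helper9)
-/

set_option autoImplicit false

namespace Cfsg.Agent.TH.Cl.Fld

open Cfsg.Agent.DS.Cl Cfsg.Agent.DS.Cl.Fwd Cfsg.Agent.SB.Cl Cfsg.Agent.SB.C2 Cfsg.Agent.SB.Fld Module

variable {A : Type} [Ring A] [StarRing A] [Finite A] [Nontrivial A] {W : Subring A} {θ : A}

/-- a `p`-group which fixes a non-singular point over `W + W θ` centralises a root group which moves the point -/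
theorem exists_hs (hq : Qd W θ) {p : ℕ} (hp : p.Prime) (h0 : (p : A) = 0) {P : Subgroup (RingAut A)} (hP : IsPGroup p P)
    (hPS : P ≤ SAut A) (hPZ : P ≤ DS.Cl.Fix (Zt W θ : Set A)) {e : A} (e1 : e ∈ Subring.centralizer (Zt W θ : Set A))
    (e2 : star e = e) (e3 : e * e = e) (e4 : ∀ γ ∈ P, γ e = e)
    (e5 : ∀ a ∈ Subring.centralizer (Zt W θ : Set A), star a = a → ∃ w ∈ W, e * a * e = w * e)
    (e6 : ∃ a ∈ Subring.centralizer (Zt W θ : Set A), (1 - e) * a * e ≠ 0) :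
    ∃ x, Hs (Zt W θ) x ∧ (∀ γ ∈ P, γ x = x) ∧ (star x * x = 0 ∨ (e * x = x ∧ x * e = 0)) ∧
      star x * x * e = e * (star x * x) ∧ (x - star x) * e ≠ e * (x - star x) := by
  let M : AddSubgroup A :=
    { carrier := {x | x ∈ Subring.centralizer (Zt W θ : Set A) ∧ x * e = x ∧ e * x = 0}
      add_mem' := fun ha hb => ⟨add_mem ha.1 hb.1, by rw [add_mul, ha.2.1, hb.2.1], by
        rw [mul_add, ha.2.2, hb.2.2, add_zero]⟩
      zero_mem' := ⟨zero_mem _, zero_mul e, mul_zero e⟩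
      neg_mem' := fun ha => ⟨neg_mem ha.1, by rw [neg_mul, ha.2.1], by rw [mul_neg, ha.2.2, neg_zero]⟩ }
  obtain ⟨x, ⟨x1, x2, x3⟩, x4, x5⟩ := exists_fix hp h0 hP M (fun γ hγ x hx => ⟨fun z hz => by
      rw [← hPZ hγ z hz, ← map_mul, ← map_mul, hx.1 z hz], by rw [← e4 γ hγ, ← map_mul, hx.2.1], by
      rw [← e4 γ hγ, ← map_mul, hx.2.2, map_zero]⟩) fun hM => by
    obtain ⟨a, ha, h1⟩ := e6
    have h2 : (1 - e) * a * e ∈ M := ⟨mul_mem (mul_mem (sub_mem (one_mem _) e1) ha) e1, by rw [mul_assoc _ e, e3], by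
      rw [← mul_assoc, ← mul_assoc, mul_sub, e3, mul_one, sub_self, zero_mul, zero_mul]⟩
    rw [hM] at h2
    exact h1 h2
  have y1 := star_centralizer hq.star_mem x x1
  have y2 : e * star x = star x := by rw [← e2, ← star_mul, x2]
  have y3 : star x * e = 0 := by rw [← e2, ← star_mul, x3, star_zero]
  have xx : x * x = 0 := by rw [← x2, mul_assoc, ← mul_assoc e, x3, zero_mul, mul_zero]
  obtain ⟨w, hw, h1⟩ := e5 _ (mul_mem y1 x1) (by rw [star_mul, star_star])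
  rw [← mul_assoc, y2, mul_assoc, x2] at h1
  by_cases h2 : w = 0
  · rw [h2, zero_mul] at h1
    refine ⟨star x, ⟨hq.star_mem, hq.mul_comm, y1, by rw [← star_mul, xx, star_zero], by rw [star_star, h1]⟩,
      fun γ hγ => by rw [hPS hγ, x5 γ hγ], Or.inr ⟨y2, y3⟩, ?_, fun h3 => x4 ?_⟩
    · rw [star_star, mul_assoc, y3, ← mul_assoc, x3, mul_zero, zero_mul]
    · rw [star_star, sub_mul, mul_sub, y2, y3, x2, x3, zero_sub, sub_zero] at h3
      have h4 := congrArg (· * e) h3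
      simpa only [neg_mul, x2, y3, neg_eq_zero] using h4
  obtain ⟨w', hw', h3⟩ := hq.isF.inv w hw h2
  obtain ⟨a, ha, h4⟩ := hq.norm_surj (neg_mem hw')
  have a1 := hq.star_mem a ha
  have a2 : star (e + a * x) = e + star a * star x := by rw [star_add, e2, star_mul, y1 _ a1]
  have a3 : e * (e + a * x) = e := by rw [mul_add, e3, ← mul_assoc, ← e1 _ ha, mul_assoc, x3, mul_zero, add_zero]
  have a4 : (e + a * x) * e = e + a * x := by rw [add_mul, e3, mul_assoc, x2]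
  have a5 : star (e + a * x) * (e + a * x) = 0 := by
    rw [a2, add_mul, a3, mul_add, mul_assoc, y3, mul_assoc, ← mul_assoc (star x), ← y1 _ ha, mul_assoc, h1, ← mul_assoc,
      ← mul_assoc, h4, neg_mul, hq.isF.comm _ hw' _ hw, h3]
    simp
  have a6 : e + a * x ∈ Subring.centralizer (Zt W θ : Set A) :=
    add_mem e1 (mul_mem (fun z hz => hq.mul_comm z hz a ha) x1)
  have a7 : ∀ γ ∈ P, γ (e + a * x) = e + a * x := fun γ hγ => by rw [map_add, map_mul, e4 γ hγ, x5 γ hγ, hPZ hγ a ha]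
  have a8 : (e + a * x) - star (e + a * x) ≠ 0 := fun h5 => by
    have h6 := congrArg (· * e) h5
    simp only [a2, sub_mul, add_mul, e3, mul_assoc, x2, y3, mul_zero, add_zero, zero_mul, add_sub_cancel_left] at h6
    have h7 := congrArg (fun y => -w * (star a * y)) h6
    simp only [← mul_assoc, mul_zero] at h7
    rw [mul_assoc (-w), h4, neg_mul_neg, h3, one_mul] at h7
    exact x4 h7
  generalize e + a * x = t at a3 a4 a5 a6 a7 a8
  have b1 : t * star t ∈ Subring.centralizer (Zt W θ : Set A) := mul_mem a6 (star_centralizer hq.star_mem t a6)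
  have b2 : t * star t * (t * star t) = 0 := by rw [mul_assoc, ← mul_assoc (star t), a5, zero_mul, mul_zero]
  have b3 : star (θ * (t * star t)) = star θ * (t * star t) := by rw [star_mul, star_mul, star_star, b1 _ hq.star_self]
  have b4 : ∀ y ∈ Zt W θ, ∀ z, z * (t * star t) * (y * (t * star t)) = 0 := fun y hy z => by
    rw [b1 _ hy, mul_assoc, ← mul_assoc (t * star t), b2, zero_mul, mul_zero]
  have b5 : star (θ * (t * star t)) * (θ * (t * star t)) = 0 := by rw [b3, b4 _ self_mem_Zt]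
  refine ⟨θ * (t * star t), ⟨hq.star_mem, hq.mul_comm, 
    Subring.mul_mem (Subring.centralizer _) (fun z hz => hq.mul_comm z hz θ self_mem_Zt) b1,
    b4 _ self_mem_Zt _, by rw [b3, b4 _ hq.star_self]⟩, fun γ hγ => by
      rw [map_mul, map_mul, hPS hγ, a7 γ hγ, hPZ hγ θ self_mem_Zt], Or.inl b5, by rw [b5, zero_mul, mul_zero],
    fun h5 => a8 ?_⟩
  have b6 : star t * e = e := by rw [← e2, ← star_mul, a3]
  have b7 : e * star t = star t := by rw [← e2, ← star_mul, a4]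
  rw [b3, ← sub_mul, ← mul_assoc e, ← e1 _ (sub_mem self_mem_Zt hq.star_self), mul_assoc, mul_assoc, mul_assoc, b6, a4,
    ← mul_assoc e, a3, b7] at h5
  exact sub_eq_zero.2 (hq.unit.mul_left_cancel h5)

omit [Nontrivial A] in
/-- the root group moves the point -/
theorem ei_inj (hq : Qd W θ) {x e c : A} (h : Hs (Zt W θ) x) (hc : c ∈ Zt W θ) (h1 : c + star c = 1)
    (e1 : e ∈ Subring.centralizer (Zt W θ : Set A)) (h2 : star x * x * e = e * (star x * x))
    (h3 : (x - star x) * e ≠ e * (x - star x)) (a b : W)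
    (hab : DS.Cl.cj A (h.ei hc h1 (le_Zt a.2)) e = DS.Cl.cj A (h.ei hc h1 (le_Zt b.2)) e) : a = b := by
  have a1 : DS.Cl.cj A ((h.ei hc h1 (le_Zt b.2))⁻¹ * h.ei hc h1 (le_Zt a.2)) e = e := by
    rw [map_mul, ra_mul, hab, map_inv, ra_inv_apply]
  have a2 := cj_mul_eq ((h.ei hc h1 (le_Zt b.2))⁻¹ * h.ei hc h1 (le_Zt a.2)) e
  have ha := le_Zt (θ := θ) a.2
  have hb := le_Zt (θ := θ) b.2
  rw [a1, Units.val_mul, h.ei_inv, h.ei_val, h.one_mul _ _ _ ha (neg_mem (h.st _ ha))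
    (neg_mem (mul_mem hc (mul_mem (h.st _ ha) ha))), hq.sym _ a.2, hq.sym _ b.2] at a2
  have a3 : -(star c * (b * b)) + -(c * (a * a)) + b * a ∈ Zt W θ := add_mem (add_mem
    (neg_mem (mul_mem (h.st _ hc) (mul_mem hb hb))) (neg_mem (mul_mem hc (mul_mem ha ha)))) (mul_mem hb ha)
  generalize -(star c * (b * b)) + -(c * (a * a)) + b * a = k at a2 a3
  have a4 : hs x (-b + a) (b + -a) k = (a - b) * (x - star x) + k * (star x * x) := by rw [hs]; noncomm_ring
  rw [a4, mul_add, mul_add, add_mul, add_mul, ← mul_assoc, ← mul_assoc e, ← e1 _ (sub_mem ha hb), ← e1 _ a3, mul_assoc k,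
    mul_assoc k, h2, mul_one, one_mul, add_right_inj, add_left_inj, mul_assoc, mul_assoc] at a2
  by_contra hne
  exact h3 ((hq.isF.isUnit (sub_mem a.2 b.2) fun e => hne (Subtype.ext (sub_eq_zero.1 e))).mul_left_cancel a2).symm

variable {K V : Type} [Field K] [AddCommGroup V] [Module K V] {π : A →+* End K V} {c η : A} {r : ℕ}

section

variable (h : LU π c η θ) (hW : SymF W r)
include h hW

omit [Finite A] [Nontrivial A] in
theorem qd : Qd W θ := ⟨hW.isF, hW.sym, fun x _ => cen_comm h.θ_cen x,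
  hW.le ⟨add_mem h.θ_cen (star_cen h.θ_cen), by rw [star_add, star_star, add_comm]⟩,
  hW.le ⟨mul_mem h.θ_cen (star_cen h.θ_cen), by rw [star_mul, star_star]⟩, h.θ_unit⟩

omit [Finite A] [Nontrivial A] hW in
theorem cen_rep {x : A} (hx : x ∈ Subring.center A) : ∃ a ∈ C0 A, ∃ b ∈ C0 A, x = a + b * θ := by
  obtain ⟨u, hu⟩ := h.θ_unit
  have h1 : (u : A) ∈ Subring.center A := hu ▸ sub_mem h.θ_cen (star_cen h.θ_cen)
  have h2 : star (u : A) = -u := by rw [hu, star_sub, star_star, neg_sub]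
  have h3 : star ((u⁻¹ : Aˣ) : A) = -(u⁻¹ : Aˣ) := by
    have h3 : star ((u⁻¹ : Aˣ) : A) * (-u) = 1 := by rw [← h2, ← star_mul, Units.mul_inv, star_one]
    rw [← mul_one (star _), ← u.mul_inv, ← mul_assoc, ← neg_mul_neg, ← mul_neg, h3, one_mul]
  have h4 : (x - star x) * (u⁻¹ : Aˣ) ∈ C0 A := ⟨mul_mem (sub_mem hx (star_cen hx)) (inv_cen h1), by
    rw [star_mul, h3, star_sub, star_star, ← neg_sub x, neg_mul_neg, cen_comm (inv_cen h1)]⟩
  refine ⟨x - (x - star x) * (u⁻¹ : Aˣ) * θ, ⟨sub_mem hx (mul_mem h4.1 h.θ_cen), ?_⟩, _, h4, by abel⟩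
  have h5 : (x - star x) * (u⁻¹ : Aˣ) * (θ - star θ) = x - star x := by rw [← hu, Units.inv_mul_cancel_right]
  rw [star_sub, star_mul, h4.2, cen_comm h4.1, sub_eq_sub_iff_sub_eq_sub, ← neg_sub x, ← h5]
  rw [h5]
  nth_rewrite 1 [← h5]
  noncomm_ring

omit [Finite A] [Nontrivial A] in
theorem comSub : ComSub (Zt W θ) := ⟨fun x hx => by
  obtain ⟨a, ha, b, hb, e⟩ := cen_rep h hx
  exact (qd h hW).mem_iff.2 ⟨a, hW.le ha, b, hW.le hb, e⟩, (qd h hW).star_mem, (qd h hW).mul_comm⟩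

omit [Finite A] [Nontrivial A] hW in
theorem cent_Zt {x : A} (hx : x ∈ Subring.centralizer (W : Set A)) : x ∈ Subring.centralizer (Zt W θ : Set A) :=
  Qd.comm_of hx (cen_comm h.θ_cen x).symm

omit [Finite A] [Nontrivial A] hW in
theorem fix_Zt {γ : RingAut A} (h1 : γ ∈ DS.Cl.Fix (W : Set A)) (h2 : γ ∈ Lin A) : γ ∈ DS.Cl.Fix (Zt W θ : Set A) :=
  fun _ hz => Zt_le (X := RingHom.eqLocus (γ : A →+* A) (RingHom.id A)) h1 (h2 θ h.θ_cen) hz

omit [Finite A] [Nontrivial A] in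
theorem inv_Zt {M : Subgroup (RingAut A)} (hM : Inv M W) : Inv M (Zt W θ) := fun γ hγ _ hz =>
  Zt_le (X := (Zt W θ).comap (γ : A →+* A)) (fun x hx => le_Zt (hM γ hγ x hx))
    ((comSub h hW).1 (map_cen γ h.θ_cen)) hz

end

omit [Finite A] [Nontrivial A] in
/-- symmetric elements of rank one -/
theorem rk1 (h : LU π c η θ) {ρ : A} (hs : star ρ = ρ) {v : V} {f : V →ₗ[K] K} (hπ : π ρ = f.smulRight v) (a : A) :
    ∃ k ∈ Subring.center A, ρ * a * ρ = k * ρ ∧ (star a = a → star k = k) := by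
  have key : ∀ a, ∃ d ∈ Subring.center A, c * (ρ * a * ρ) = d * ρ := fun a => by
    obtain ⟨d, hd, hd'⟩ := h.exists_cen (f (π a v))
    have h1 := h.c_ker (ρ * a * ρ - d * ρ) (LinearMap.ext fun w => by
      simp [hd', hπ, smul_smul, mul_comm])
    rw [mul_sub, sub_eq_zero, ← mul_assoc c d] at h1
    exact ⟨_, mul_mem h.c_cen hd, h1⟩
  have key2 : ∀ a d d', d' ∈ Subring.center A → c * (ρ * a * ρ) = d * ρ → c * (ρ * star a * ρ) = d' * ρ →
      ρ * a * ρ = (d + star d') * ρ := fun a d d' hd' h1 h2 => by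
    have h3 := congrArg star h2
    rw [star_mul, star_mul, star_mul, star_mul, star_star, hs, cen_comm (star_cen h.c_cen), cen_comm (star_cen hd'),
      ← mul_assoc ρ] at h3
    rw [add_mul, ← h1, ← h3, ← add_mul, h.c_add, one_mul]
  obtain ⟨d, hd, h1⟩ := key a
  by_cases h2 : star a = a
  · exact ⟨_, add_mem hd (star_cen hd), key2 a d d hd h1 (by rwa [h2]), fun _ => by rw [star_add, star_star, add_comm]⟩
  · obtain ⟨d', hd', h3⟩ := key (star a)
    exact ⟨_, add_mem hd (star_cen hd'), key2 a d d' hd' h1 h3, fun e => absurd e h2⟩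

variable {F : FR A} {G H : Subgroup (RingAut A)} {m p : ℕ}

/-- **the non-Singer case does not occur** -/
theorem span [Module.Finite K V] (cx : Ctx F G H m p) (h : LU π c η θ) (h3 : 3 ≤ finrank K V) (hW : SymF W r)
    (hH : Inv H W) (hI : Irr1 H) {ρ₀ : A} (s0 : star ρ₀ = ρ₀) {v₀ : V} {f₀ : V →ₗ[K] K} (π0 : π ρ₀ = f₀.smulRight v₀)
    (f0 : f₀ v₀ ≠ 0) : ∃ v, ∀ x : V, ∃ z ∈ Zt W θ, π z v = x := by
  have hq := qd h hW
  have hZ := comSub h hW
  have hL := F.L_eq h.c_cen h.c_add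
  let tr : A →+ K := (LinearMap.trace K V).toAddMonoidHom.comp π.toAddMonoidHom
  have tr1 : ∀ a, tr a = LinearMap.trace K V (π a) := fun _ => rfl
  have tr2 : ∀ a b, tr (a * b) = tr (b * a) := fun a b => by
    rw [tr1, tr1, map_mul π, map_mul π, LinearMap.trace_mul_comm]
  have tr3 : ∀ a, a * a = 0 → tr a = 0 := fun a ha => (LinearMap.isNilpotent_trace_of_isNilpotent (f := π a)
    ⟨2, by rw [pow_two, ← map_mul π, ha, map_zero]⟩).eq_zero
  have tr4 : tr ρ₀ ≠ 0 := by rwa [tr1, π0, LinearMap.trace_smulRight]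
  -- a transvection which does not centralise `W`
  obtain ⟨ρ, v, f, ε, hε, s1, π1, sq, tr5⟩ : ∃ (ρ : A) (v : V) (f : V →ₗ[K] K), ∃ ε ∈ W, star ρ = ρ ∧
      π ρ = f.smulRight v ∧ ρ * ρ = 0 ∧ tr (ρ * ε) ≠ 0 := by
    obtain ⟨ε, hε, hε'⟩ := SetLike.not_le_iff_exists.1 hW.not_le
    obtain ⟨k, hk, a1, a2⟩ := rk1 h s0 π0 ε
    obtain ⟨k', hk', a3, a4⟩ := rk1 h s0 π0 1
    have a5 : k' ∈ C0 A := ⟨hk', a4 (star_one A)⟩
    have a6 : k' * ε - k ∈ W := sub_mem (mul_mem (hW.le a5) hε) (hW.le ⟨hk, a2 (hW.sym ε hε)⟩)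
    have a7 : k' * ε - k ≠ 0 := fun e => by
      obtain ⟨y, hy, a7⟩ := (isF_C0 cx.ss).inv k' a5 fun e => tr4 (tr3 _ (by rwa [e, zero_mul, mul_one] at a3))
      refine hε' ?_
      rw [← one_mul ε, ← a7, cen_comm hy.1, mul_assoc, sub_eq_zero.1 e]
      exact mul_mem hy.1 hk
    have a8 : ρ₀ * (k' * ε - k) * ρ₀ = 0 := by
      rw [mul_one] at a3
      rw [mul_sub, sub_mul, ← mul_assoc, cen_comm hk', cen_comm hk, mul_assoc k', mul_assoc k', mul_assoc k, a1, a3,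
        ← mul_assoc, ← mul_assoc, cen_comm hk, sub_self]
    obtain ⟨z, hz, a9⟩ := hq.norm_surj a6
    obtain ⟨y, hy, a10⟩ := hW.isF.inv _ a6 a7
    refine ⟨z * ρ₀ * star z, π z v₀, f₀.comp (π (star z)), y, hy, by rw [star_mul, star_mul, star_star, s0, mul_assoc],
      LinearMap.ext fun x => by simp [π0], ?_, ?_⟩
    · calc z * ρ₀ * star z * (z * ρ₀ * star z) = z * (ρ₀ * (star z * z) * ρ₀) * star z := by noncomm_ring
        _ = 0 := by rw [a9, a8, mul_zero, zero_mul]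
    · rwa [mul_assoc, mul_assoc, tr2, mul_assoc, mul_assoc, hq.mul_comm _ (le_Zt hy) _ hz, ← mul_assoc (star z), a9, a10,
        mul_one]
  have tr6 : f (π ε v) ≠ 0 := by
    rwa [tr2, tr1, map_mul, π1, show π ε * f.smulRight v = f.smulRight (π ε v) from LinearMap.ext fun x => by simp,
      LinearMap.trace_smulRight] at tr5
  have hv : v ≠ 0 := fun e => tr6 (by rw [e, map_zero, map_zero])
  have hf : f ≠ 0 := fun e => tr6 (by rw [e, LinearMap.zero_apply])
  have hfv : f v = 0 := by rw [← LinearMap.trace_smulRight, ← π1]; exact tr3 _ sq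
  have t1 : θ - star θ ∈ Subring.center A := sub_mem h.θ_cen (star_cen h.θ_cen)
  have t2 : star (θ - star θ) = -(θ - star θ) := by rw [star_sub, star_star, neg_sub]
  have t3 := h.θ_unit
  generalize θ - star θ = t at t1 t2 t3
  obtain ⟨k₀, hk₀⟩ := h.scal_of t1
  have t4 : k₀ ≠ 0 := fun e => by
    have a1 := t3.map π
    rw [hk₀, e, zero_smul, isUnit_zero_iff] at a1
    exact hv (by simpa using (LinearMap.congr_fun a1 v).symm)
  have t5 : star (t * ρ) = -(t * ρ) := by rw [star_mul, s1, t2, mul_neg, cen_comm t1]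
  obtain ⟨t6, g, hg, hg'⟩ := h.transv F h3 t5 hv (f := k₀ • f) (smul_ne_zero t4 hf) (by simp [hfv])
    (LinearMap.ext fun x => by simp [hk₀, π1, smul_smul])
  obtain ⟨P, p1, p2, p3, p4, p5⟩ := core' cx hH (hW.not_inv cx.span (perfect_of_simple cx.simple cx.noncomm)) (r := r)
    (fun M hM => Nat.le_of_dvd hW.prime.pos (hW.relIndex_dvd (fun γ hγ => hH γ (hM hγ).1)
      fun γ hγ => F.PI_le_Lin (F.S_le_PI (hM hγ).2))) (cx.S_le ⟨g, hg, rfl⟩)
  have p6 : P ≤ Lin A := (p2.trans F.S_le_PI).trans F.PI_le_Lin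
  have p7 : P ≤ SAut A := (p2.trans F.S_le_Aut).trans F.Aut_le_SAut
  have b1 : avg W ρ ∈ Subring.centralizer (W : Set A) := avg_mem hW.isF ρ
  have b2 : star (avg W ρ) = avg W ρ := by rw [← avg_star hW.isF hW.sym, s1]
  have wc : ∀ w ∈ W, w ∈ Subring.centralizer (W : Set A) := fun w hw y hy => hW.isF.comm y hy w hw
  have zc : ∀ z ∈ Zt W θ, z ∈ Subring.centralizer (W : Set A) := fun z hz y hy => hq.mul_comm y (le_Zt hy) z hz
  have b3 : ∀ γ ∈ P, γ (avg W ρ) = avg W ρ := by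
    obtain ⟨k, hk, a1, a2⟩ := rk1 h s1 π1 ε
    have a3 : IsUnit k := cx.ss.isUnit_of_cen hk (a2 (hW.sym ε hε)) fun e => tr5 (tr3 _ (by
      rw [← mul_assoc, a1, e, zero_mul, zero_mul]))
    have a4 : DS.Cl.cj A g ε = ε + t * (ρ * ε) - t * (ε * ρ) - t * t * k * ρ := by
      have a5 : (1 + t * ρ) * ε * (1 + -(t * ρ)) = ε + t * (ρ * ε) - ε * t * ρ - t * (ρ * ε * t) * ρ := by noncomm_ring
      rw [FR.Iso.cj_apply (F.comm_le_Iso hg), hg', star_add, star_one, t5, a5, cen_comm t1 ε, cen_comm t1 (ρ * ε),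
        mul_assoc t (t * _), mul_assoc t (ρ * ε), a1]
      simp only [mul_assoc]
    have a5 : avg W (DS.Cl.cj A g ε) = ε - t * t * k * avg W ρ := by
      rw [a4, map_sub, map_sub, map_add, avg_of_mem hW.isF (wc ε hε), avg_mul_left (zc _ (hZ.1 t1)),
        avg_mul_left (zc _ (hZ.1 t1)), avg_mul_left (zc _ (hZ.1 (mul_mem (mul_mem t1 t1) hk))),
        avg_mul_left (wc ε hε), avg_mul_right hW.isF (wc ε hε), b1 ε hε, add_sub_cancel_right]
    intro γ hγ
    have a6 := map_avg (p3 hγ) hW.isF (DS.Cl.cj A g ε)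
    rw [p4 hγ _ ⟨ε, hε, rfl⟩, a5, map_sub, map_mul, p3 hγ ε hε, p6 hγ _ (mul_mem (mul_mem t1 t1) hk), sub_right_inj] at a6
    exact ((t3.mul t3).mul a3).mul_left_cancel a6
  have b4 : ∀ a ∈ Subring.centralizer (W : Set A), star a = a → ∃ w ∈ W, avg W ρ * a * avg W ρ = w * avg W ρ := by
    intro a ha hs
    choose k hk hk' _ using rk1 h s1 π1
    have a1 : -∑ u ∈ un W, k (a * u) * (u⁻¹ : Aˣ) ∈ Zt W θ := neg_mem (sum_mem fun u hu =>
      mul_mem (hZ.1 (hk _)) (le_Zt (inv_mem_of_isF hW.isF (mem_un.1 hu))))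
    have a2 : ρ * (a * avg W ρ) = ρ * -∑ u ∈ un W, k (a * u) * (u⁻¹ : Aˣ) := by
      rw [avg_apply, mul_neg, mul_neg, mul_neg, Finset.mul_sum, Finset.mul_sum, Finset.mul_sum]
      refine congrArg _ (Finset.sum_congr rfl fun u _ => ?_)
      rw [← mul_assoc ρ (k _), cen_comm (hk _), ← hk']
      simp only [mul_assoc]
    generalize -∑ u ∈ un W, k (a * u) * (u⁻¹ : Aˣ) = z at a1 a2
    have a3 : avg W ρ * a * avg W ρ = z * avg W ρ := by
      rw [mul_assoc, ← avg_mul_right hW.isF (mul_mem ha b1), a2, avg_mul_right hW.isF (zc z a1), cent_Zt h b1 z a1]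
    have a4 := congrArg star a3
    rw [star_mul, star_mul, star_mul, b2, hs, ← mul_assoc, ← cent_Zt h b1 _ (hq.star_mem z a1)] at a4
    refine ⟨c * z + star (c * z), hq.trace_mem (mul_mem (hZ.1 h.c_cen) a1), ?_⟩
    rw [star_mul, cen_comm (star_cen h.c_cen), add_mul, mul_assoc c, mul_assoc (star c), ← a3, ← a4, ← add_mul, h.c_add,
      one_mul]
  obtain ⟨w, hw, b5⟩ := b4 1 (one_mem _) (star_one A)
  rw [mul_one] at b5
  obtain ⟨w', hw', b6⟩ := hW.isF.inv w hw fun e => tr5 (by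
    rw [← tr_avg hW.isF tr tr2, avg_mul_right hW.isF (wc ε hε)]
    exact tr3 _ (by rw [mul_assoc, ← mul_assoc ε, b1 ε hε, ← mul_assoc, ← mul_assoc, b5, e]; simp))
  have b7 : w' * w = 1 := by rw [hW.isF.comm _ hw' _ hw, b6]
  by_cases e0 : w' * avg W ρ = 1
  · refine ⟨v, fun x => ?_⟩
    let N : Submodule K V := (h.img _ hZ.1).toSubmodule.map (LinearMap.applyₗ v)
    have a1 : x ∈ N := by
      have a2 : x = π (w' * avg W ρ) x := by rw [e0, map_one]; rfl
      rw [a2, avg_apply, mul_neg, Finset.mul_sum, map_neg, map_sum, LinearMap.neg_apply, LinearMap.sum_apply]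
      refine neg_mem (sum_mem fun u hu => ?_)
      rw [← mul_assoc, ← mul_assoc, map_mul, map_mul, π1, Module.End.mul_apply, Module.End.mul_apply,
        LinearMap.smulRight_apply, map_smul]
      exact N.smul_mem _ ⟨_, ⟨_, le_Zt (mul_mem hw' (mem_un.1 hu)), rfl⟩, rfl⟩
    obtain ⟨_, ⟨z, hz, rfl⟩, a2⟩ := a1
    exact ⟨z, hz, a2⟩
  exfalso
  have e1 : w' * avg W ρ ∈ Subring.centralizer (W : Set A) := mul_mem (wc _ hw') b1
  have e2 : star (w' * avg W ρ) = w' * avg W ρ := by rw [star_mul, b2, hW.sym _ hw', b1 _ hw']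
  have e5 : ∀ a y, avg W ρ * a * avg W ρ = y * avg W ρ →
      w' * avg W ρ * a * (w' * avg W ρ) = w' * y * (w' * avg W ρ) := fun a y hy => by
    calc w' * avg W ρ * a * (w' * avg W ρ) = w' * (avg W ρ * a * avg W ρ) * w' := by
          nth_rewrite 2 [b1 _ hw']
          simp only [mul_assoc]
      _ = _ := by rw [hy, b1 _ hw']; simp only [mul_assoc]
  have e3 : w' * avg W ρ * (w' * avg W ρ) = w' * avg W ρ := by
    have a1 := e5 1 w (by rw [mul_one, b5])
    rwa [mul_one, b7, one_mul] at a1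
  have e4 : ∀ γ ∈ P, γ (w' * avg W ρ) = w' * avg W ρ := fun γ hγ => by rw [map_mul, b3 γ hγ, p3 hγ _ hw']
  have e7 : w' * avg W ρ ≠ 0 := fun e => tr5 (by
    rw [← tr_avg hW.isF tr tr2, avg_mul_right hW.isF (wc ε hε), ← one_mul (avg W ρ), ← b6, mul_assoc w, e]; simp)
  have e8 : ∀ a ∈ Subring.centralizer (Zt W θ : Set A), star a = a →
      ∃ y ∈ W, w' * avg W ρ * a * (w' * avg W ρ) = y * (w' * avg W ρ) := fun a ha hs => by
    obtain ⟨y, hy, a1⟩ := b4 a (fun z hz => ha z (le_Zt hz)) hs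
    exact ⟨w' * y, mul_mem hw' hy, e5 a y a1⟩
  generalize w' * avg W ρ = e at e0 e1 e2 e3 e4 e7 e8
  have e6 : ∃ a ∈ Subring.centralizer (Zt W θ : Set A), (1 - e) * a * e ≠ 0 := by
    by_contra hc
    push Not at hc
    have a1 : ∀ a ∈ Subring.centralizer (Zt W θ : Set A), a * e = e * a * e := fun a ha => by
      have a2 := hc a ha
      rwa [sub_mul, sub_mul, one_mul, sub_eq_zero] at a2
    have hs := ss_of_inv cx.ss cx.le_SAut hI.1 hI.2 (star_centralizer hq.star_mem) (inv_centralizer (inv_Zt h hW hH))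
    set B := Blk.ofSubring _ (star_centralizer hq.star_mem)
    have a3 : ∀ a ∈ Subring.centralizer (Zt W θ : Set A), a * e = e * a := fun a ha => by
      have a2 := congrArg star (a1 _ (star_centralizer hq.star_mem a ha))
      rw [star_mul, star_mul, star_mul, star_star, e2, ← mul_assoc] at a2
      exact (a1 a ha).trans a2.symm
    rcases hs.idem_symm (e := B.mk' e (cent_Zt h e1)) (B.mem_center_iff.2 a3) (B.val_inj e2) (B.val_inj e3) with a2 | a2
    · exact e7 (congrArg B.val a2)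
    · exact e0 (congrArg B.val a2)
  have p8 : P ≤ DS.Cl.Fix (Zt W θ : Set A) := fun γ hγ => fix_Zt h (p3 hγ) (p6 hγ)
  obtain ⟨x, x1, x2, x3, x4, x5⟩ := exists_hs hq cx.prime cx.char p1 p7 p8 (cent_Zt h e1) e2 e3 e4 e8 e6
  have hc := hZ.1 h.c_cen
  refine absurd (p5 x1.J x1.nil ?_ ?_ e e4 W (fun w => x1.ei hc h.c_add (le_Zt w.2)) (fun w => ⟨_, ?_, rfl⟩)
    (fun w => ?_) (ei_inj hq x1 hc h.c_add (cent_Zt h e1) x4 x5)) (not_le.2 hW.lt_card)
  · rintro _ ⟨a, ha, b, hb, k, hk, rfl⟩ z hz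
    exact x1.comm_hs ha hb hk (le_Zt hz)
  · rintro γ hγ _ ⟨a, ha, b, hb, k, hk, rfl⟩
    refine ⟨a, ha, b, hb, k, hk, ?_⟩
    simp only [hs, map_add, map_mul, p7 hγ x, x2 γ hγ, p8 hγ a ha, p8 hγ b hb, p8 hγ k hk]
  · have n1 := neg_mem (x1.st _ (le_Zt w.2))
    have n2 := neg_mem (mul_mem hc (mul_mem (x1.st _ (le_Zt w.2)) (le_Zt w.2)))
    rcases x3 with x3 | x3
    · refine skew_mem cx.ss hL hW.isF hW.sym hW.four_le (zc c hc) h.c_add (fun y hy => ?_)
        (x1.uni hc h.c_add (le_Zt w.2)) ?_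
      · rw [x1.ei_val, mul_add, add_mul, x1.comm_hs (le_Zt w.2) n1 n2 (le_Zt hy), mul_one, one_mul]
      · rw [x1.ei_val, add_sub_cancel_left, x1.mul _ _ _ (le_Zt w.2) n1 n2, x3, mul_zero]
    · exact ei_mem cx.ss hL hq hW.four_le x1 hc h.c_add _ (cent_Zt h e1) e2 e3 x3.1 x3.2
  · rw [x1.ei_val, add_sub_cancel_left]
    exact ⟨_, le_Zt w.2, _, neg_mem (x1.st _ (le_Zt w.2)), _,
      neg_mem (mul_mem hc (mul_mem (x1.st _ (le_Zt w.2)) (le_Zt w.2))), rfl⟩

end Cfsg.Agent.TH.Cl.Fld
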