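import Cfsg.Agent.TH.Cl.FldLU.Min
import Cfsg.Agent.DS.Cl.Vec

/-!
# S3541, invariant commutative subrings: the Sylow argument, averaging, long root elements (helper9)

For all four kinds of classical groups.
-/

set_option autoImplicit false

namespace Cfsg.Agent.TH.Cl.Fld

open Cfsg.Agent.DS.Cl Cfsg.Agent.DS.Cl.Fwd Cfsg.Agent.SB.Cl Cfsg.Agent.SB.C2 Module
open scoped commutatorElement

/-- `P` is a Sylow subgroup of `B₂ ≤ B₁ ≤ B`, and `p ∤ [B : B₁]` -/
theorem exists_syl {Γ : Type*} [Group Γ] [Finite Γ] {p : ℕ} (hp : p.Prime) {B B₁ B₂ : Subgroup Γ} (h1 : B₁ ≤ B)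
    (h2 : B₂ ≤ B₁) (h : ¬ p ∣ B₁.relIndex B) : ∃ P : Subgroup Γ, IsPGroup p P ∧ P ≤ B₂ ∧
      ∀ R : Subgroup Γ, R ≤ B → IsPGroup p R → (∀ y ∈ P, ∀ x ∈ R, y * x * y⁻¹ ∈ R) → P.relIndex R ≤ B₂.relIndex B₁ := by
  have : Fact p.Prime := ⟨hp⟩
  obtain ⟨Q⟩ : Nonempty (Sylow p B₂) := inferInstance
  have hP : (Q : Subgroup B₂).map B₂.subtype ≤ B₂ := Subgroup.map_subtype_le _
  have hQ : ¬ p ∣ ((Q : Subgroup B₂).map B₂.subtype).relIndex B₂ := by
    rw [Subgroup.relIndex, Subgroup.subgroupOf, Subgroup.comap_map_eq_self_of_injective B₂.subtype_injective]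
    exact Q.not_dvd_index
  have hP' : IsPGroup p ((Q : Subgroup B₂).map B₂.subtype) := Q.isPGroup'.map _
  generalize (Q : Subgroup B₂).map B₂.subtype = P at hP hQ hP'
  refine ⟨P, hP', hP, fun R hR hR' hn => ?_⟩
  have a1 : IsPGroup p ↥(P ⊔ R) := IsPGroup.to_sup_of_normal_right' hP' hR' (le_normalizer_of_conj hn)
  have a2 : P ⊔ R ≤ B := sup_le (hP.trans (h2.trans h1)) hR
  obtain ⟨k, hk⟩ := a1.index (P.subgroupOf (P ⊔ R))
  have a3 : P.relIndex (P ⊔ R) ∣ P.relIndex B₂ * B₂.relIndex B₁ * B₁.relIndex B := by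
    rw [Subgroup.relIndex_mul_relIndex _ _ _ hP h2, Subgroup.relIndex_mul_relIndex _ _ _ (hP.trans h2) h1,
      ← Subgroup.relIndex_mul_relIndex _ _ _ le_sup_left a2]
    exact Dvd.intro _ rfl
  rw [Subgroup.relIndex, hk] at a3
  have a4 := (((hp.coprime_iff_not_dvd.2 hQ).pow_left k).dvd_mul_left).1
    ((((hp.coprime_iff_not_dvd.2 h).pow_left k).dvd_mul_right).1 a3)
  refine (Subgroup.relIndex_le_of_le_right (L := P ⊔ R) le_sup_right Subgroup.index_ne_zero_of_finite).trans ?_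
  rw [Subgroup.relIndex, hk]
  exact Nat.le_of_dvd (Nat.pos_of_ne_zero Subgroup.index_ne_zero_of_finite) a4

section nostar

variable {A : Type} [Ring A]

/-- the units `1 + j`, `j ∈ J` -/
def oneAdd [Finite A] (J : NonUnitalSubring A) : Subgroup Aˣ where
  carrier := {u | (u : A) - 1 ∈ J}
  one_mem' := by simp
  mul_mem' := fun {a b} (ha : (a : A) - 1 ∈ J) (hb : (b : A) - 1 ∈ J) => by
    have h := J.add_mem (J.mul_mem ha hb) (J.add_mem ha hb)
    change (a : A) * b - 1 ∈ J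
    convert h using 1
    noncomm_ring
  inv_mem' := fun {a} (ha : (a : A) - 1 ∈ J) => by
    have h : ∀ k : ℕ, ((a ^ k : Aˣ) : A) - 1 ∈ J := fun k => by
      induction k with
      | zero => simp
      | succ k ih =>
        have h := J.add_mem (J.mul_mem ih ha) (J.add_mem ih ha)
        rw [pow_succ, Units.val_mul]
        convert h using 1
        noncomm_ring
    have h1 : a⁻¹ = a ^ (orderOf a - 1) := by
      rw [inv_eq_iff_mul_eq_one, ← pow_succ', Nat.sub_add_cancel (orderOf_pos a), pow_orderOf_eq_one]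
    rw [h1]
    exact h _

theorem isPGroup_oneAdd [Finite A] [Nontrivial A] {p : ℕ} (hp : p.Prime) (h0 : (p : A) = 0) {J : NonUnitalSubring A}
    (hJ : ∀ j ∈ J, IsNilpotent j) : IsPGroup p (oneAdd J) := fun u => by
  have : Fact p.Prime := ⟨hp⟩
  have : CharP A p := (CharP.charP_iff_prime_eq_zero hp).2 h0
  obtain ⟨k, hk⟩ := hJ _ u.2
  refine ⟨k, Subtype.ext (Units.ext ?_)⟩
  have h1 := add_pow_char_pow_of_commute p k (Commute.one_left ((u.1 : A) - 1))
  rw [add_sub_cancel, one_pow, pow_eq_zero_of_le (Nat.lt_pow_self hp.one_lt).le hk, add_zero] at h1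
  exact h1

theorem fix_conj {X : Set A} {γ δ : RingAut A} (hγ : ∀ x ∈ X, γ⁻¹ x ∈ X) (hδ : δ ∈ DS.Cl.Fix X) :
    γ * δ * γ⁻¹ ∈ DS.Cl.Fix X := fun x hx => by rw [ra_mul, ra_mul, hδ _ (hγ x hx), ra_apply_inv]

theorem cj_fix {g : RingAut A} {X : Set A} : TH.cj g (DS.Cl.Fix X) = DS.Cl.Fix (g '' X) := by
  ext γ
  rw [mem_cj]
  constructor
  · rintro h _ ⟨x, hx, rfl⟩
    have h1 := congrArg g (h x hx)
    rwa [ra_mul, ra_mul, ra_apply_inv] at h1
  · intro h x hx
    rw [ra_mul, ra_mul, h _ ⟨x, hx, rfl⟩, ra_inv_apply]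

variable [Finite A] (W : Subring A)

/-- the units in `W` -/
noncomputable def un : Finset Aˣ := (Set.toFinite {u : Aˣ | (u : A) ∈ W}).toFinset

/-- the projection onto the centraliser of the field `W` -/
noncomputable def avg : A →+ A where
  toFun a := -∑ u ∈ un W, DS.Cl.cj A u a
  map_zero' := by simp
  map_add' a b := by simp only [map_add, Finset.sum_add_distrib, neg_add]

variable {W}

theorem mem_un {u : Aˣ} : u ∈ un W ↔ (u : A) ∈ W := Set.Finite.mem_toFinset _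

theorem avg_apply (a : A) : avg W a = -∑ u ∈ un W, (u : A) * a * (u⁻¹ : Aˣ) := rfl

omit [Finite A] in
theorem inv_mem_of_isF (h : IsF W) {u : Aˣ} (hu : (u : A) ∈ W) : ((u⁻¹ : Aˣ) : A) ∈ W := by
  rcases subsingleton_or_nontrivial A with _ | _
  · rw [Subsingleton.elim ((u⁻¹ : Aˣ) : A) 0]
    exact W.zero_mem
  obtain ⟨y, hy, h1⟩ := h.inv _ hu u.ne_zero
  rw [Units.inv_eq_of_mul_eq_one_right h1]
  exact hy

theorem card_un [Nontrivial A] (h : IsF W) : ((un W).card : A) = -1 := by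
  classical
  have := Fintype.ofFinite A
  let T' : Finset A := Finset.univ.filter fun x => x ∈ W
  have h1 : (un W).card = (T'.erase 0).card := by
    refine Finset.card_bij (fun u _ => (u : A)) (fun u hu' => ?_) (fun u _ v _ huv => Units.ext huv) fun x hx => ?_
    · simp only [T', Finset.mem_erase, Finset.mem_filter, Finset.mem_univ, true_and]
      exact ⟨u.ne_zero, mem_un.1 hu'⟩
    · simp only [T', Finset.mem_erase, Finset.mem_filter, Finset.mem_univ, true_and] at hx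
      obtain ⟨u, rfl⟩ := h.isUnit hx.2 hx.1
      exact ⟨u, mem_un.2 hx.2, rfl⟩
  have h2 : (T'.erase 0).card + 1 = T'.card := Finset.card_erase_add_one (by simp [T'])
  have h3 : T'.card = Nat.card W := by rw [Nat.card_eq_fintype_card, Fintype.card_subtype]
  have h4 : (Nat.card W : W) = 0 := by
    rw [← nsmul_one]
    exact card_nsmul_eq_zero'
  have h5 : (Nat.card W : A) = 0 := by
    have h6 := congrArg W.subtype h4
    rwa [map_natCast, map_zero] at h6
  rw [← h3, ← h2, ← h1, Nat.cast_add, Nat.cast_one] at h5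
  exact eq_neg_of_add_eq_zero_left h5

theorem avg_mem (h : IsF W) (a : A) : avg W a ∈ Subring.centralizer (W : Set A) := by
  intro z hz
  by_cases h0 : z = 0
  · simp [h0]
  obtain ⟨v, rfl⟩ := h.isUnit hz h0
  have h4 : DS.Cl.cj A v (avg W a) = avg W a := by
    change DS.Cl.cj A v (-∑ u ∈ un W, DS.Cl.cj A u a) = -∑ u ∈ un W, DS.Cl.cj A u a
    rw [map_neg, map_sum]
    congr 1
    refine Finset.sum_equiv (Equiv.mulLeft v) (fun u => ?_) fun u _ => ?_
    · rw [mem_un, mem_un]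
      refine ⟨fun h5 => W.mul_mem hz h5, fun h5 => ?_⟩
      simpa using W.mul_mem (inv_mem_of_isF h hz) h5
    · rw [Equiv.coe_mulLeft, map_mul, ra_mul]
  have h5 := cj_mul_eq v (avg W a)
  rw [h4] at h5
  exact h5.symm

theorem avg_mul_left {b : A} (hb : b ∈ Subring.centralizer (W : Set A)) (a : A) : avg W (b * a) = b * avg W a := by
  rw [avg_apply, avg_apply, mul_neg, Finset.mul_sum]
  refine congrArg _ (Finset.sum_congr rfl fun u hu => ?_)
  rw [← mul_assoc, hb _ (mem_un.1 hu)]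
  simp only [mul_assoc]

theorem avg_mul_right (h : IsF W) {b : A} (hb : b ∈ Subring.centralizer (W : Set A)) (a : A) :
    avg W (a * b) = avg W a * b := by
  rw [avg_apply, avg_apply, neg_mul, Finset.sum_mul]
  refine congrArg _ (Finset.sum_congr rfl fun u hu => ?_)
  rw [mul_assoc _ _ b, hb _ (inv_mem_of_isF h (mem_un.1 hu))]
  simp only [mul_assoc]

theorem map_avg {γ : RingAut A} (hγ : γ ∈ DS.Cl.Fix (W : Set A)) (h : IsF W) (a : A) : γ (avg W a) = avg W (γ a) := by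
  rw [avg_apply, avg_apply, map_neg, map_sum]
  refine congrArg _ (Finset.sum_congr rfl fun u hu => ?_)
  rw [map_mul, map_mul, hγ _ (mem_un.1 hu), hγ _ (inv_mem_of_isF h (mem_un.1 hu))]

/-- averaging preserves traces -/
theorem tr_avg [Nontrivial A] (h : IsF W) {M : Type*} [AddCommGroup M] (tr : A →+ M) (ht : ∀ a b, tr (a * b) = tr (b * a))
    (a : A) : tr (avg W a) = tr a := by
  rw [avg_apply, map_neg, map_sum, Finset.sum_congr rfl fun u _ => (ht _ _).trans (by rw [Units.inv_mul_cancel_left]),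
    Finset.sum_const, ← map_nsmul, nsmul_eq_mul, card_un h, neg_one_mul, map_neg, neg_neg]

theorem avg_of_mem [Nontrivial A] (h : IsF W) {b : A} (hb : b ∈ Subring.centralizer (W : Set A)) : avg W b = b := by
  rw [avg_apply, Finset.sum_congr rfl fun (u : Aˣ) hu => (by rw [hb _ (mem_un.1 hu), Units.mul_inv_cancel_right] :
    (u : A) * b * (u⁻¹ : Aˣ) = b), Finset.sum_const, nsmul_eq_mul, card_un h, neg_one_mul, neg_neg]

end nostar

variable {A : Type} [Ring A] [StarRing A] [Finite A]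

theorem avg_star {W : Subring A} (h : IsF W) (hs : ∀ x ∈ W, star x = x) (a : A) : avg W (star a) = star (avg W a) := by
  rw [avg_apply, avg_apply, star_neg, star_sum]
  congr 1
  refine Finset.sum_equiv (Equiv.inv Aˣ) (fun u => ?_) fun u hu' => ?_
  · rw [mem_un, mem_un]
    exact ⟨inv_mem_of_isF h, fun h5 => by simpa using inv_mem_of_isF h h5⟩
  · have h5 := mem_un.1 hu'
    rw [Equiv.inv_apply, star_mul, star_mul, inv_inv, hs _ h5, hs _ (inv_mem_of_isF h h5), mul_assoc]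

variable {F : FR A} {G H : Subgroup (RingAut A)} {m p : ℕ}

/-- **the Sylow argument** : `Z` is invariant under `H`, the linear automorphisms act on `Z` through a group of order at
most `r`.  For each `g` there is a `p`-subgroup `P` of `S` fixing `Z` and `g Z` which has index at most `r` in all
`p`-subgroups of `S ⊓ Fix Z` containing it. -/
theorem core (c : Ctx F G H m p) {Z : Set A} (hZ : Inv H Z) (hS : ¬ Inv F.S Z) {r : ℕ}
    (hr : ∀ M : Subgroup (RingAut A), M ≤ H ⊓ F.S → (DS.Cl.Fix Z).relIndex M ≤ r) {g : RingAut A} (hg : g ∈ G) :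
    ∃ P : Subgroup (RingAut A), IsPGroup p P ∧ P ≤ F.S ∧ P ≤ DS.Cl.Fix Z ∧ P ≤ DS.Cl.Fix (g '' Z) ∧
      ∀ R : Subgroup (RingAut A), R ≤ F.S ⊓ DS.Cl.Fix Z → IsPGroup p R → (∀ y ∈ P, ∀ x ∈ R, y * x * y⁻¹ ∈ R) →
        P.relIndex R ≤ r := by
  have hB : F.S ⊓ DS.Cl.Fix Z ≤ H := fun γ hγ =>
    c.mem_of_inv hZ hS (c.S_le hγ.1) fun x hx => by rw [hγ.2 x hx]; exact hx
  have h1 := c.in.relIndex_dvd_d₂ hB (fun a ha x hx => ⟨FR.conj_mem_S (c.H_le_Aut ha) hx.1,
    fix_conj (hZ _ (inv_mem ha)) hx.2⟩) le_rfl (fun a ha x hx => mul_mem (mul_mem ha hx) (inv_mem ha)) hg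
  obtain ⟨P, a1, a2, a3⟩ := exists_syl c.prime (B := F.S ⊓ DS.Cl.Fix Z) (B₁ := TH.cj g H ⊓ (F.S ⊓ DS.Cl.Fix Z))
    (B₂ := DS.Cl.Fix (g '' Z) ⊓ (TH.cj g H ⊓ (F.S ⊓ DS.Cl.Fix Z))) inf_le_right inf_le_right
    (by rw [Subgroup.inf_relIndex_right]; exact fun h => c.not_dvd_d (h.trans h1))
  refine ⟨P, a1, fun γ hγ => (a2 hγ).2.2.1, fun γ hγ => (a2 hγ).2.2.2, fun γ hγ => (a2 hγ).1,
    fun R h2 h3 h4 => (a3 R h2 h3 h4).trans ?_⟩
  rw [Subgroup.inf_relIndex_right, ← cj_fix, ← cj_cj_inv g (TH.cj g H ⊓ _),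
    Subgroup.relIndex_map_map_of_injective _ _ (MulAut.conj g).injective]
  refine hr _ fun γ hγ => ?_
  rw [mem_cj, inv_inv] at hγ
  refine ⟨by simpa [mul_assoc] using mem_cj.1 hγ.1, ?_⟩
  simpa [mul_assoc] using FR.conj_mem_S (inv_mem (c.le hg)) hγ.2.1

/-- **the Sylow argument**, for families of unipotent elements -/
theorem core' (c : Ctx F G H m p) {Z : Set A} (hZ : Inv H Z) (hS : ¬ Inv F.S Z) {r : ℕ}
    (hr : ∀ M : Subgroup (RingAut A), M ≤ H ⊓ F.S → (DS.Cl.Fix Z).relIndex M ≤ r) {g : RingAut A} (hg : g ∈ G) :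
    ∃ P : Subgroup (RingAut A), IsPGroup p P ∧ P ≤ F.S ∧ P ≤ DS.Cl.Fix Z ∧ P ≤ DS.Cl.Fix (g '' Z) ∧
      ∀ J : NonUnitalSubring A, (∀ j ∈ J, IsNilpotent j) → (∀ j ∈ J, ∀ z ∈ Z, z * j = j * z) →
        (∀ γ ∈ P, ∀ j ∈ J, γ j ∈ J) → ∀ e : A, (∀ γ ∈ P, γ e = e) → ∀ (X : Type) (u : X → Aˣ),
          (∀ a, DS.Cl.cj A (u a) ∈ F.S) → (∀ a, (u a : A) - 1 ∈ J) → (∀ a b, DS.Cl.cj A (u a) e = DS.Cl.cj A (u b) e → a = b) →
            Nat.card X ≤ r := by
  have := c.ss.nontrivial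
  obtain ⟨P, a1, a2, a3, a4, a5⟩ := core c hZ hS hr hg
  refine ⟨P, a1, a2, a3, a4, fun J h1 h2 h3 e he X u h4 h5 h6 => le_trans ?_
    (a5 (F.S ⊓ (oneAdd J).map (DS.Cl.cj A)) (inf_le_inf_left _ ?_) (((isPGroup_oneAdd c.prime c.char h1).map _).to_inf_right)
      fun y hy x hx => ⟨FR.conj_mem_S (F.S_le_Aut (a2 hy)) hx.1, ?_⟩)⟩
  · let φ : X → ↥(F.S ⊓ (oneAdd J).map (DS.Cl.cj A)) := fun a => ⟨DS.Cl.cj A (u a), h4 a, u a, h5 a, rfl⟩
    refine Nat.card_le_card_of_injective (fun a => (QuotientGroup.mk (φ a) : _ ⧸ P.subgroupOf _))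
      fun a b hab => h6 a b ?_
    have b1 := he _ (Subgroup.mem_subgroupOf.1 (QuotientGroup.eq.1 hab))
    have b2 := congrArg (DS.Cl.cj A (u a)) b1
    change DS.Cl.cj A (u a) ((DS.Cl.cj A (u a))⁻¹ (DS.Cl.cj A (u b) e)) = _ at b2
    rw [ra_apply_inv] at b2
    exact b2.symm
  · rintro _ ⟨v, hv, rfl⟩ z hz
    refine cj_eq_of_mul ?_
    have b1 := h2 _ hv z hz
    rw [mul_sub, sub_mul, mul_one, one_mul, sub_left_inj] at b1
    exact b1.symm
  · obtain ⟨v, hv, rfl⟩ := hx.2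
    rw [conj_cj]
    refine ⟨_, ?_, rfl⟩
    change y v - 1 ∈ J
    rw [← map_one y, ← map_sub]
    exact h3 y hy _ hv

omit [Finite A] in
/-- a skew element of square zero lies in an `SL₂` -/
theorem exists_opp {B : Subring A} (hB : ∀ x ∈ B, star x ∈ B) {s y₀ l : A} (h1 : s ∈ B) (h2 : y₀ ∈ B) (h3 : l ∈ B)
    (hl : l + star l = 1) (hs : star s = -s) (hss : s * s = 0) (hy : s * y₀ * s = s) :
    ∃ y ∈ B, star y = -y ∧ y * y = 0 ∧ s * y * s = s ∧ y * s * y = y := by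
  obtain ⟨y₁, a0, a1, a2⟩ : ∃ y₁ ∈ B, star y₁ = -y₁ ∧ s * y₁ * s = s := by
    refine ⟨-(y₀ * s * star y₀), B.neg_mem (B.mul_mem (B.mul_mem h2 h1) (hB _ h2)), ?_, ?_⟩
    · rw [star_neg, star_mul, star_mul, star_star, hs]; noncomm_ring
    · have b1 := congrArg star hy
      rw [star_mul, star_mul, hs] at b1
      have b2 : s * -(y₀ * s * star y₀) * s = -(s * y₀ * s * (star y₀ * s)) := by noncomm_ring
      have b3 : -s * (star y₀ * -s) = s * (star y₀ * s) := by noncomm_ring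
      rw [b2, hy, ← b3, b1, neg_neg]
  obtain ⟨y₂, b0, b1, b2, b3⟩ : ∃ y₂ ∈ B, star y₂ = -y₂ ∧ s * y₂ * s = s ∧ y₂ * s * y₂ = y₂ := by
    refine ⟨y₁ * s * y₁, B.mul_mem (B.mul_mem a0 h1) a0, ?_, ?_, ?_⟩
    · rw [star_mul, star_mul, hs, a1]; noncomm_ring
    · calc s * (y₁ * s * y₁) * s = s * y₁ * s * y₁ * s := by noncomm_ring
        _ = s := by rw [a2, a2]
    · calc y₁ * s * y₁ * s * (y₁ * s * y₁) = y₁ * (s * y₁ * s) * y₁ * s * y₁ := by noncomm_ring
        _ = y₁ * (s * y₁ * s) * y₁ := by rw [a2, mul_assoc, mul_assoc, mul_assoc, ← mul_assoc s, ← mul_assoc (s * y₁), a2,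
          mul_assoc]
        _ = _ := by rw [a2]
  set g := 1 - s * y₂ * l with hg
  have c1 : star g = 1 - star l * y₂ * s := by rw [hg, star_sub, star_one, star_mul, star_mul, hs, b1]; noncomm_ring
  have c2 : s * g = s := by rw [hg, mul_sub, ← mul_assoc, ← mul_assoc, hss]; simp
  have c3 : star g * s = s := by rw [c1, sub_mul, mul_assoc, hss]; simp
  have c4 : y₂ * (star g * g) * y₂ = 0 := by
    have d1 : star g * g = 1 - s * y₂ * l - star l * y₂ * s := by
      rw [c1, sub_mul, one_mul, mul_assoc (star l * y₂), c2]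
    have d2 : y₂ * (1 - s * y₂ * l - star l * y₂ * s) * y₂ =
      y₂ * y₂ - y₂ * s * y₂ * l * y₂ - y₂ * star l * (y₂ * s * y₂) := by noncomm_ring
    rw [d1, d2, b3, sub_sub, ← add_mul, ← mul_add, hl, mul_one, sub_self]
  have c5 : g ∈ B := B.sub_mem B.one_mem (B.mul_mem (B.mul_mem h1 b0) h3)
  refine ⟨g * y₂ * star g, B.mul_mem (B.mul_mem c5 b0) (hB _ c5), ?_, ?_, ?_, ?_⟩
  · rw [star_mul, star_mul, star_star, b1]; noncomm_ring
  · calc g * y₂ * star g * (g * y₂ * star g) = g * (y₂ * (star g * g) * y₂) * star g := by noncomm_ring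
      _ = 0 := by rw [c4, mul_zero, zero_mul]
  · calc s * (g * y₂ * star g) * s = s * g * y₂ * (star g * s) := by noncomm_ring
      _ = s := by rw [c2, c3, b2]
  · calc g * y₂ * star g * s * (g * y₂ * star g) = g * y₂ * (star g * s * g) * y₂ * star g := by noncomm_ring
      _ = g * (y₂ * s * y₂) * star g := by rw [c3, c2]; noncomm_ring
      _ = _ := by rw [b3]

omit [Finite A] in
theorem uni_one_add {s : A} (hs : star s = -s) (hss : s * s = 0) : (1 + s) * star (1 + s) = 1 := by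
  rw [star_add, star_one, hs, add_mul, mul_add, mul_add, mul_neg, mul_neg, hss]; simp

omit [StarRing A] in
theorem exists_sq_ne [Nontrivial A] {W : Subring A} (h : IsF W) (h4 : 4 ≤ Nat.card W) :
    ∃ a ∈ W, a ≠ 0 ∧ a * a - 1 ≠ 0 := by
  let := h.isField.toField
  have := Fintype.ofFinite W
  obtain ⟨a, h1, h2⟩ := DS.Cl.Vec.exists_sq_ne (K := W) (by rwa [← Nat.card_eq_fintype_card])
  exact ⟨a, a.2, fun e => h1 (Subtype.ext e), fun e => h2 (Subtype.ext (by rw [pow_two]; exact sub_eq_zero.1 e))⟩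

/-- **long root elements** over a symmetric field with at least four elements are commutators -/
theorem one_add_mem [Nontrivial A] (hL : F.L = Lmax A) {W : Subring A} (h : IsF W) (hW : ∀ x ∈ W, star x = x)
    (h4 : 4 ≤ Nat.card W) {s y₀ l : A} (h1 : s ∈ Subring.centralizer (W : Set A))
    (h2 : y₀ ∈ Subring.centralizer (W : Set A)) (h3 : l ∈ Subring.centralizer (W : Set A)) (hl : l + star l = 1)
    (hs : star s = -s) (hss : s * s = 0) (hy : s * y₀ * s = s) :
    mkU (1 + s) (uni_one_add hs hss) ∈ (⁅F.Iso, F.Iso⁆ : Subgroup Aˣ) := by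
  obtain ⟨y, a0, a1, a2, a3, a4⟩ := exists_opp (star_centralizer fun x hx => by rw [hW x hx]; exact hx) h1 h2 h3 hl hs
    hss hy
  obtain ⟨a, ha, ha0, ha1⟩ := exists_sq_ne h h4
  obtain ⟨b, hb, hab⟩ := h.inv a ha ha0
  have hba : b * a = 1 := by rw [h.comm b hb a ha, hab]
  obtain ⟨k, hk, hk'⟩ := h.inv _ (W.sub_mem (W.mul_mem ha ha) W.one_mem) ha1
  have e1 : ∀ x ∈ W, s * x = x * s := fun x hx => (h1 x hx).symm
  have e2 : ∀ x ∈ W, y * x = x * y := fun x hx => (a0 x hx).symm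
  have e3 : ∀ x ∈ W, s * y * x = x * (s * y) := fun x hx => by rw [mul_assoc, e2 x hx, ← mul_assoc, e1 x hx, mul_assoc]
  have e4 : ∀ x ∈ W, y * s * x = x * (y * s) := fun x hx => by rw [mul_assoc, e1 x hx, ← mul_assoc, e2 x hx, mul_assoc]
  have f1 : s * y * (s * y) = s * y := by rw [← mul_assoc, a3]
  have f2 : y * s * (y * s) = y * s := by rw [← mul_assoc, a4]
  have f3 : s * y * (y * s) = 0 := by rw [mul_assoc, ← mul_assoc y, a2, zero_mul, mul_zero]
  have f4 : y * s * (s * y) = 0 := by rw [mul_assoc, ← mul_assoc s, hss, zero_mul, mul_zero]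
  have f5 : star (s * y) = y * s := by rw [star_mul, hs, a1, neg_mul_neg]
  have f6 : star (y * s) = s * y := by rw [star_mul, hs, a1, neg_mul_neg]
  have f7 : s * y * s = s := a3
  have f8 : y * s * s = 0 := by rw [mul_assoc, hss, mul_zero]
  have f9 : s * (s * y) = 0 := by rw [← mul_assoc, hss, zero_mul]
  have f10 : s * (y * s) = s := by rw [← mul_assoc, a3]
  generalize s * y = e at e3 f1 f3 f4 f5 f6 f7 f9
  generalize y * s = e' at e4 f2 f3 f4 f5 f6 f8 f10
  have g1 : star (1 + (a - 1) * e + (b - 1) * e') = 1 + (b - 1) * e + (a - 1) * e' := by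
    rw [star_add, star_add, star_one, star_mul, star_mul, f5, f6, hW _ (W.sub_mem ha W.one_mem),
      hW _ (W.sub_mem hb W.one_mem), e3 _ (W.sub_mem hb W.one_mem), e4 _ (W.sub_mem ha W.one_mem)]
    abel
  have g2 : (1 + (a - 1) * e + (b - 1) * e') * star (1 + (a - 1) * e + (b - 1) * e') = 1 := by
    have g3 : (1 + (a - 1) * e + (b - 1) * e') * (1 + (b - 1) * e + (a - 1) * e') =
        1 + (a - 1) * e + (b - 1) * e' + (b - 1) * e + (a - 1) * e' + (a - 1) * (e * (b - 1)) * e +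
          (a - 1) * (e * (a - 1)) * e' + (b - 1) * (e' * (b - 1)) * e + (b - 1) * (e' * (a - 1)) * e' := by noncomm_ring
    rw [g1, g3, e3 _ (W.sub_mem hb W.one_mem), e3 _ (W.sub_mem ha W.one_mem), e4 _ (W.sub_mem hb W.one_mem),
      e4 _ (W.sub_mem ha W.one_mem)]
    simp only [mul_assoc, f1, f2, f3, f4, mul_zero, add_zero]
    have g4 : (a - 1) * ((b - 1) * e) = (a * b - a - b + 1) * e := by noncomm_ring
    have g5 : (b - 1) * ((a - 1) * e') = (b * a - a - b + 1) * e' := by noncomm_ring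
    rw [g4, g5, hab, hba]
    noncomm_ring
  have g3 : star (k * s) = -(k * s) := by rw [star_mul, hs, hW k hk, neg_mul, e1 k hk]
  have g4 : k * s * (k * s) = 0 := by rw [mul_assoc, ← mul_assoc s, e1 k hk, mul_assoc, hss, mul_zero, mul_zero]
  have g5 : mkU (1 + s) (uni_one_add hs hss) = ⁅mkU _ g2, mkU _ (uni_one_add g3 g4)⁆ := by
    apply Units.ext
    rw [commutatorElement_def, Units.val_mul, Units.val_mul, Units.val_mul, star_eq_inv (u := mkU _ g2) g2,
      star_eq_inv (u := mkU _ (uni_one_add g3 g4)) (uni_one_add g3 g4), mkU_val, mkU_val, mkU_val, star_add 1 (k * s),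
      star_one, g3]
    have g6 : (1 + (a - 1) * e + (b - 1) * e') * s = a * s := by
      rw [add_mul, add_mul, mul_assoc, mul_assoc, f7, f8]; noncomm_ring
    have g7 : s * star (1 + (a - 1) * e + (b - 1) * e') = a * s := by
      rw [g1, mul_add, mul_add, ← mul_assoc, ← mul_assoc, e1 _ (W.sub_mem hb W.one_mem),
        e1 _ (W.sub_mem ha W.one_mem), mul_assoc, mul_assoc, f9, f10]; noncomm_ring
    have g8 : (1 + (a - 1) * e + (b - 1) * e') * (1 + k * s) * star (1 + (a - 1) * e + (b - 1) * e') =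
        1 + a * a * k * s := by
      rw [mul_add, mul_one, add_mul, g2, ← e1 k hk, ← mul_assoc, g6, mul_assoc a, e1 k hk, mul_assoc, mul_assoc, g7,
        ← mul_assoc, ← mul_assoc, mul_assoc a k, h.comm k hk a ha, ← mul_assoc]
    have g9 : (1 + a * a * k * s) * (1 + -(k * s)) = 1 + (a * a - 1) * k * s - a * a * (k * s * (k * s)) := by
      noncomm_ring
    rw [g8, g9, g4, hk', one_mul, mul_zero, sub_zero]
  rw [g5]
  exact Subgroup.commutator_mem_commutator (mem_Iso_max hL g2) (mem_Iso_max hL (uni_one_add g3 g4))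

end Cfsg.Agent.TH.Cl.Fld
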