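import Cfsg.Agent.TH.Uni
import Cfsg.Agent.H384.TwoCyc

/-!
# S3541: the number of lines when a normal subgroup with nearly cyclic quotient is semiregular (helper9)
-/

set_option autoImplicit false

namespace Cfsg.Agent.TH

variable {G : Type*} [Group G] {H N : Subgroup G} {m : ℕ} {Δ : Type*} [Group Δ]

/-- `N` is semiregular, `H / N` is abelian, an extension of a group of order at most two, acting without fixed points on
`N`, by a cyclic group -/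
structure Dih (H N : Subgroup G) (ρ : H →* Δ) : Prop where
  free : ∀ g, g ∉ H → ∀ x ∈ N, x ∈ cj g H → x = 1
  comm : ∀ a ∈ H, ∀ b ∈ H, a * b * a⁻¹ * b⁻¹ ∈ N
  le : N ≤ H
  two : ∀ a b : H, ρ a = 1 → ρ b = 1 → a.1 ∉ N → b.1 ∉ N → a.1⁻¹ * b ∈ N
  inv : ∀ a : H, ρ a = 1 → a.1 ∉ N → ∀ x ∈ N, a.1 * x = x * a → x = 1

theorem ncard_le_of_coset [Finite G] {S : Set (Subgroup G)} {f : Subgroup G → G} (hf : Set.InjOn f S) {a : G}
    (h : ∀ K ∈ S, a⁻¹ * f K ∈ N) : S.ncard ≤ Nat.card N := by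
  rw [← Nat.card_coe_set_eq]
  exact Nat.card_le_card_of_injective (fun K : S => (⟨a⁻¹ * f K, h K K.2⟩ : N)) fun K K' e =>
    Subtype.ext (hf K.2 K'.2 (mul_left_cancel (congrArg Subtype.val e)))

namespace Dih

variable {ρ : H →* Δ} (d : Dih H N ρ)
include d

theorem eq_one {K : Subgroup G} (hK : K ∈ Ks H) {x : G} (h1 : x ∈ N) (h2 : x ∈ K) : x = 1 := by
  obtain ⟨g, hg, rfl⟩ := hK
  exact d.free g hg x h1 h2.2

theorem mul_comm {K : Subgroup G} (hK : K ∈ Ks H) {a b : G} (ha : a ∈ K) (hb : b ∈ K) : a * b = b * a := by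
  have h := d.eq_one hK (d.comm a (le_of_mem_Ks hK ha) b (le_of_mem_Ks hK hb))
    (mul_mem (mul_mem (mul_mem ha hb) (inv_mem ha)) (inv_mem hb))
  rwa [mul_inv_eq_one, mul_inv_eq_iff_eq_mul] at h

theorem ker_cases {K : Subgroup G} (hK : K ∈ Ks H) {i a : H} (h1 : i.1 ∈ K) (h2 : ρ i = 1) (h3 : i.1 ∉ N) (h4 : ρ a = 1)
    (h5 : i.1 * a = a * i) : a = 1 ∨ a = i := by
  by_cases h : a.1 ∈ N
  · exact Or.inl (Subtype.ext (d.inv i h2 h3 _ h h5))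
  · have _ := hK
    have _ := h1
    have h6 := d.inv i h2 h3 _ (d.two i a h2 h4 h3 h) (by rw [mul_inv_cancel_left, mul_assoc, ← h5, inv_mul_cancel_left])
    exact Or.inr (Subtype.ext (inv_mul_eq_one.1 h6).symm)

variable [Finite G] (hH : Half H m)
include hH

omit d [Finite G] in
theorem card_mul {K : Subgroup G} (hK : K ∈ Ks H) :
    Nat.card ↥(K.subgroupOf H ⊓ ρ.ker) * Nat.card ((K.subgroupOf H).map ρ) = m := by
  rw [← hH.card_of_mem_Ks hK, ← In.card_sub (le_of_mem_Ks hK), ← Subgroup.relIndex_ker,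
    ← (ρ.ker.subgroupOf (K.subgroupOf H)).card_mul_index, ← In.card_sub (inf_le_left (a := K.subgroupOf H)),
    Subgroup.inf_subgroupOf_left, Subgroup.relIndex]

variable [Finite Δ] [IsCyclic Δ]

theorem eq_of_mem {K K' : Subgroup G} (hK : K ∈ Ks H) (hK' : K' ∈ Ks H) {i : H} (h1 : i.1 ∈ K) (h1' : i.1 ∈ K')
    (h2 : ρ i = 1) (h3 : i.1 ∉ N) : K = K' := by
  have a1 : ∀ K ∈ Ks H, i.1 ∈ K → K.subgroupOf H ⊓ ρ.ker = Subgroup.zpowers i := fun K hK h1 =>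
    le_antisymm (fun a ha => by
      rcases d.ker_cases hK h1 h2 h3 ha.2 (d.mul_comm hK h1 ha.1) with rfl | rfl
      exacts [one_mem _, Subgroup.mem_zpowers _]) (Subgroup.zpowers_le.2 ⟨h1, h2⟩)
  have a2 := card_mul (ρ := ρ) hH hK
  have a3 := card_mul (ρ := ρ) hH hK'
  rw [a1 K hK h1] at a2
  rw [a1 K' hK' h1', ← a2] at a3
  have a4 := H384.TwoCyc.eq_of_card (Nat.eq_of_mul_eq_mul_left Nat.card_pos a3)
  refine Subgroup.eq_of_le_of_card_ge (fun k hk => ?_) (by rw [hH.card_of_mem_Ks hK, hH.card_of_mem_Ks hK'])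
  obtain ⟨k', hk', e⟩ := a4.ge (Subgroup.mem_map_of_mem ρ (show (⟨k, le_of_mem_Ks hK hk⟩ : H) ∈ K.subgroupOf H from hk))
  have hk'' : (k' : G) ∈ K' := hk'
  have a5 : i.1 * ((k' : G)⁻¹ * k) = (k' : G)⁻¹ * k * i := by
    rw [← mul_assoc, d.mul_comm hK' h1' (inv_mem hk''), mul_assoc, d.mul_comm hK h1 hk, mul_assoc]
  rcases d.ker_cases hK h1 h2 h3 (a := k'⁻¹ * ⟨k, le_of_mem_Ks hK hk⟩) (by rw [map_mul, map_inv, e, inv_mul_cancel]) a5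
    with a6 | a6
  · rw [← show (k' : G) = k from congrArg Subtype.val (inv_mul_eq_one.1 a6)]
    exact hk'
  · rw [show k = k' * i from congrArg Subtype.val (inv_mul_eq_iff_eq_mul.1 a6)]
    exact mul_mem hk' h1'

theorem ncard_A : {K ∈ Ks H | ∃ i : H, i.1 ∈ K ∧ ρ i = 1 ∧ i.1 ∉ N}.ncard ≤ Nat.card N := by
  classical
  rcases Set.eq_empty_or_nonempty {K ∈ Ks H | ∃ i : H, i.1 ∈ K ∧ ρ i = 1 ∧ i.1 ∉ N} with h | ⟨_, -, i, -, h1, h2⟩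
  · rw [h, Set.ncard_empty]
    exact Nat.zero_le _
  refine ncard_le_of_coset (f := fun K => if h : ∃ i : H, i.1 ∈ K ∧ ρ i = 1 ∧ i.1 ∉ N then h.choose.1 else 1) (a := i)
    (fun K hK K' hK' e => ?_) fun K hK => ?_
  · simp only [dif_pos hK.2, dif_pos hK'.2] at e
    exact d.eq_of_mem hH hK.1 hK'.1 hK.2.choose_spec.1 (e ▸ hK'.2.choose_spec.1) hK.2.choose_spec.2.1
      hK.2.choose_spec.2.2
  · simp only [dif_pos hK.2]
    exact d.two _ _ h1 hK.2.choose_spec.2.1 h2 hK.2.choose_spec.2.2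

/-- the lines which meet the kernel of `ρ` trivially are cyclic, with generators in one coset of the kernel -/
theorem exists_gen : ∃ (σ : Δ) (f : Subgroup G → H), ∀ K ∈ Ks H, (¬ ∃ i : H, i.1 ∈ K ∧ ρ i = 1 ∧ i.1 ∉ N) →
    ρ (f K) = σ ∧ K = Subgroup.zpowers (f K).1 := by
  have a1 : ∀ K ∈ Ks H, (¬ ∃ i : H, i.1 ∈ K ∧ ρ i = 1 ∧ i.1 ∉ N) → Nat.card ((K.subgroupOf H).map ρ) = m := by
    intro K hK h
    have a2 := card_mul (ρ := ρ) hH hK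
    rwa [show K.subgroupOf H ⊓ ρ.ker = ⊥ from eq_bot_iff.2 fun a ha => Subtype.ext
      (d.eq_one hK (not_not.1 fun e => h ⟨a, ha.1, ha.2, e⟩) ha.1), Subgroup.card_bot, one_mul] at a2
  by_cases h0 : ∃ K ∈ Ks H, ¬ ∃ i : H, i.1 ∈ K ∧ ρ i = 1 ∧ i.1 ∉ N
  swap
  · exact ⟨1, fun _ => 1, fun K hK h => absurd ⟨K, hK, h⟩ h0⟩
  obtain ⟨K₀, hK₀, h₀⟩ := h0
  obtain ⟨σ, hσ⟩ := IsCyclic.exists_ofOrder_eq_natCard (α := (K₀.subgroupOf H).map ρ)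
  have a2 : ∀ K : Subgroup G, ∃ k : H, K ∈ Ks H → (¬ ∃ i : H, i.1 ∈ K ∧ ρ i = 1 ∧ i.1 ∉ N) →
      ρ k = σ ∧ K = Subgroup.zpowers k.1 := fun K => by
    by_cases h : K ∈ Ks H ∧ ¬ ∃ i : H, i.1 ∈ K ∧ ρ i = 1 ∧ i.1 ∉ N
    swap
    · exact ⟨1, fun h1 h2 => absurd ⟨h1, h2⟩ h⟩
    obtain ⟨k, hk, e⟩ := (H384.TwoCyc.eq_of_card ((a1 K₀ hK₀ h₀).trans (a1 K h.1 h.2).symm)).le σ.2
    refine ⟨k, fun _ _ => ⟨e, (Subgroup.eq_of_le_of_card_ge (Subgroup.zpowers_le.2 (show (k : G) ∈ K from hk)) ?_).symm⟩⟩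
    rw [hH.card_of_mem_Ks h.1, Nat.card_zpowers, ← a1 K₀ hK₀ h₀, ← hσ, ← Subgroup.orderOf_coe, ← e, Subgroup.orderOf_coe]
    exact Nat.le_of_dvd (orderOf_pos k) (orderOf_map_dvd ρ k)
  choose f hf using a2
  exact ⟨σ, f, hf⟩

theorem ncard_B : {K ∈ Ks H | ¬ ∃ i : H, i.1 ∈ K ∧ ρ i = 1 ∧ i.1 ∉ N}.ncard ≤ 2 * Nat.card N ∧
    (Odd m → {K ∈ Ks H | ¬ ∃ i : H, i.1 ∈ K ∧ ρ i = 1 ∧ i.1 ∉ N}.ncard ≤ Nat.card N) := by
  obtain ⟨σ, f, hf⟩ := d.exists_gen hH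
  set B := {K ∈ Ks H | ¬ ∃ i : H, i.1 ∈ K ∧ ρ i = 1 ∧ i.1 ∉ N}
  rcases Set.eq_empty_or_nonempty B with h | ⟨K₀, h₀⟩
  · rw [h, Set.ncard_empty]
    exact ⟨Nat.zero_le _, fun _ => Nat.zero_le _⟩
  have a1 : Set.InjOn (fun K => (f K).1) B := fun K hK K' hK' (e : (f K).1 = (f K').1) => by
    rw [(hf K hK.1 hK.2).2, (hf K' hK'.1 hK'.2).2, ← (hf K hK.1 hK.2).2, ← e, ← (hf K hK.1 hK.2).2]
  have a2 : ∀ K ∈ B, ρ ((f K₀)⁻¹ * f K) = 1 := fun K hK => by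
    rw [map_mul, map_inv, (hf K hK.1 hK.2).1, (hf K₀ h₀.1 h₀.2).1, inv_mul_cancel]
  refine ⟨?_, fun hm => ncard_le_of_coset a1 (a := f K₀) fun K hK => not_not.1 fun e => e ?_⟩
  · rw [← Set.ncard_inter_add_ncard_sdiff_eq_ncard B {K | (f K₀).1⁻¹ * f K ∈ N}, two_mul]
    refine Nat.add_le_add (ncard_le_of_coset (a1.mono Set.inter_subset_left) (a := f K₀) fun K hK => hK.2) ?_
    rcases Set.eq_empty_or_nonempty (B \ {K | (f K₀).1⁻¹ * f K ∈ N}) with h | ⟨K₁, h₁⟩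
    · rw [h, Set.ncard_empty]
      exact Nat.zero_le _
    refine ncard_le_of_coset (a1.mono Set.sdiff_subset) (a := f K₁) fun K hK => ?_
    simpa [mul_assoc] using d.two _ _ (a2 K₁ h₁.1) (a2 K hK.1) h₁.2 hK.2
  · have b1 : (N.subgroupOf H).Normal := ⟨fun x hx a => Subgroup.mem_subgroupOf.2 (by
      simpa using mul_mem (d.comm a a.2 x x.2) (Subgroup.mem_subgroupOf.1 hx))⟩
    let q := QuotientGroup.mk' (N.subgroupOf H)
    have b2 : ∀ a : H, q a = 1 ↔ a.1 ∈ N := fun a => QuotientGroup.eq_one_iff a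
    have b3 : ∀ a b : H, Commute (q a) (q b) := fun a b => by
      rw [← commutatorElement_eq_one_iff_commute, ← map_commutatorElement]
      exact (b2 _).2 (d.comm a a.2 b b.2)
    have b4 : ∀ K ∈ B, f K ^ m = 1 := fun K hK => Subtype.ext (by
      rw [← hH.card_of_mem_Ks hK.1, Subgroup.coe_pow, (hf K hK.1 hK.2).2, Nat.card_zpowers, ← (hf K hK.1 hK.2).2,
        pow_orderOf_eq_one]
      rfl)
    have b5 : q ((f K₀)⁻¹ * f K) ^ m = 1 := by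
      rw [map_mul, (b3 _ _).mul_pow, ← map_pow, ← map_pow, inv_pow, b4 K hK, b4 K₀ h₀, inv_one, map_one, one_mul]
    have b6 : q ((f K₀)⁻¹ * f K) ^ 2 = 1 := by
      rw [← map_pow, b2, pow_two]
      simpa using d.two ((f K₀)⁻¹ * f K)⁻¹ _ (by rw [map_inv, a2 K hK, inv_one]) (a2 K hK) (fun e' => e (inv_mem_iff.1 e')) e
    obtain ⟨j, rfl⟩ := hm
    rw [pow_succ, pow_mul, b6, one_pow, one_mul] at b5
    exact (b2 _).1 b5

/-- **the number of lines** -/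
theorem ncard_Ks : (Ks H).ncard ≤ 3 * Nat.card N ∧ (Odd (Nat.card Δ) → (Ks H).ncard ≤ Nat.card N) := by
  have h1 := d.ncard_A hH
  obtain ⟨h2, h3⟩ := d.ncard_B hH
  have h4 : (Ks H).ncard ≤ {K ∈ Ks H | ∃ i : H, i.1 ∈ K ∧ ρ i = 1 ∧ i.1 ∉ N}.ncard +
      {K ∈ Ks H | ¬ ∃ i : H, i.1 ∈ K ∧ ρ i = 1 ∧ i.1 ∉ N}.ncard :=
    (Set.ncard_le_ncard fun K hK => (em _).imp (fun h => ⟨hK, h⟩) fun h => ⟨hK, h⟩).trans (Set.ncard_union_le _ _)
  refine ⟨by omega, fun hΔ => ?_⟩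
  rcases Nat.even_or_odd m with hm | hm
  · refine le_trans (Set.ncard_le_ncard fun K hK => Set.mem_sep hK ?_) h1
    obtain ⟨i, hi⟩ := exists_prime_orderOf_dvd_card' (G := K) 2 (by rw [hH.card_of_mem_Ks hK]; exact hm.two_dvd)
    have a1 : (⟨i, le_of_mem_Ks hK i.2⟩ : H) ^ 2 = 1 :=
      Subtype.ext (show (i : G) ^ 2 = 1 from congrArg Subtype.val (hi ▸ pow_orderOf_eq_one i : i ^ 2 = 1))
    refine ⟨⟨i, le_of_mem_Ks hK i.2⟩, i.2, ?_, fun e => ?_⟩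
    · obtain ⟨j, hj⟩ := hΔ
      have a2 := pow_card_eq_one' (x := ρ ⟨i, le_of_mem_Ks hK i.2⟩)
      rwa [hj, pow_succ, pow_mul, ← map_pow, a1, map_one, one_pow, one_mul] at a2
    · rw [show i = 1 from Subtype.ext (d.eq_one hK e i.2), orderOf_one] at hi
      omega
  · refine le_trans (Set.ncard_le_ncard fun K hK => Set.mem_sep hK ?_) (h3 hm)
    rintro ⟨i, a1, a2, a3⟩
    have a4 : i * i = 1 := by
      rcases d.ker_cases hK a1 a2 a3 (a := i * i) (by rw [map_mul, a2, one_mul]) (mul_assoc _ _ _).symm with e | e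
      · exact e
      · exact absurd (by rw [mul_eq_left.1 e]; exact one_mem _) a3
    obtain ⟨j, hj⟩ := hm
    have a5 : i.1 ^ m = 1 := hH.card_of_mem_Ks hK ▸ congrArg Subtype.val (pow_card_eq_one' (x := (⟨i, a1⟩ : K)))
    rw [hj, pow_succ, pow_mul, pow_two, show i.1 * i.1 = 1 from congrArg Subtype.val a4, one_pow, one_mul] at a5
    exact a3 (a5 ▸ one_mem _)

end Dih

/-- the ambient form -/
theorem In.index_le_dih {Γ : Type*} [Group Γ] [Finite Γ] {G H N : Subgroup Γ} (c : In G H m) [Finite Δ] [IsCyclic Δ]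
    (ρ : H →* Δ) (le : N ≤ H) (free : ∀ g ∈ G, g ∉ H → ∀ x ∈ N, x ∈ cj g H → x = 1)
    (comm : ∀ a ∈ H, ∀ b ∈ H, a * b * a⁻¹ * b⁻¹ ∈ N)
    (two : ∀ a b : H, ρ a = 1 → ρ b = 1 → a.1 ∉ N → b.1 ∉ N → a.1⁻¹ * b ∈ N)
    (inv : ∀ a : H, ρ a = 1 → a.1 ∉ N → ∀ x ∈ N, a.1 * x = x * a → x = 1) :
    H.relIndex G ≤ (3 * Nat.card N) ^ 2 ∧ (Odd (Nat.card Δ) → H.relIndex G ≤ Nat.card N ^ 2) := by
  have d : Dih (H.subgroupOf G) (N.subgroupOf G) (ρ.comp (Subgroup.subgroupOfEquivOfLe c.le).toMonoidHom) :=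
    ⟨fun g hg x h1 h2 => Subtype.ext (free g g.2 hg x h1 (by rwa [In.cj_sub] at h2)),
      fun a ha b hb => comm a ha b hb, fun _ hx => le hx, fun a b h1 h2 h3 h4 => two _ _ h1 h2 h3 h4,
      fun a h1 h2 x h3 h4 => Subtype.ext (inv _ h1 h2 x h3 (congrArg Subtype.val h4))⟩
  obtain ⟨h1, h2⟩ := d.ncard_Ks c.half
  rw [In.card_sub (le.trans c.le)] at h1 h2
  exact ⟨c.half.index_le_sq.trans (Nat.pow_le_pow_left h1 2),
    fun h => c.half.index_le_sq.trans (Nat.pow_le_pow_left (h2 h) 2)⟩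

end Cfsg.Agent.TH
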