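import Cfsg.Agent.TH.Cl.Basic
import Cfsg.Agent.SB.C2.Fld
import Cfsg.Agent.H382.FieldAction

/-!
# S3541, invariant commutative subrings: symmetric subfields of prime degree (helper9)

For all four kinds of classical groups.  `SymF W r` : `W` is a field of symmetric elements of prime degree `r` over the
field `C0 A` of the symmetric central elements.
-/

set_option autoImplicit false

namespace Cfsg.Agent.TH.Cl.Fld

open Cfsg.Agent.DS.Cl Cfsg.Agent.DS.Cl.Fwd Cfsg.Agent.SB.Cl Cfsg.Agent.SB.C2 Module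

section nostar

variable {A : Type} [Ring A]

theorem card_le_of_le [Finite A] {X Y : Subring A} (h : X ≤ Y) : Nat.card X ≤ Nat.card Y :=
  AddSubgroup.card_le_of_le (H := X.toAddSubgroup) (K := Y.toAddSubgroup) h

theorem eq_of_le_of_card [Finite A] {X Y : Subring A} (h : X ≤ Y) (hc : Nat.card Y ≤ Nat.card X) : X = Y :=
  Subring.toAddSubgroup_injective (AddSubgroup.eq_of_le_of_card_ge (H := X.toAddSubgroup) (K := Y.toAddSubgroup) h hc)

/-- a subring of a finite field is a field -/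
theorem isF_of_le [Finite A] {X Y : Subring A} (hY : IsF Y) (h : X ≤ Y) : IsF X :=
  ⟨fun x hx y hy => hY.comm x (h hx) y (h hy), fun x hx h0 => by
    obtain ⟨y, hy⟩ := Finite.surjective_of_injective (f := fun y : X => (⟨x * y, X.mul_mem hx y.2⟩ : X))
      (fun a b e => Subtype.ext ((hY.isUnit (h hx) h0).mul_left_cancel (congrArg Subtype.val e))) 1
    exact ⟨y, y.2, congrArg Subtype.val hy⟩⟩

theorem exists_card_pow [Finite A] [Nontrivial A] {X Y : Subring A} (hY : IsF Y) (h : X ≤ Y) :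
    ∃ i, Nat.card Y = Nat.card X ^ i := by
  let := (isF_of_le hY h).isField.toField
  let := hY.isField.toField
  let : Algebra X Y := (Subring.inclusion h).toAlgebra
  exact ⟨finrank X Y, Module.natCard_eq_pow_finrank⟩

theorem two_le_card [Finite A] [Nontrivial A] (X : Subring A) : 2 ≤ Nat.card X := Finite.one_lt_card

/-- the restriction to an invariant subring -/
def resW (W : Subring A) {M : Subgroup (RingAut A)} (hM : Inv M W) : M →* RingAut W where
  toFun γ :=
    { toFun := fun x => ⟨γ.1 x, hM _ γ.2 _ x.2⟩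
      invFun := fun x => ⟨γ.1⁻¹ x, hM _ (inv_mem γ.2) _ x.2⟩
      left_inv := fun _ => Subtype.ext (ra_inv_apply _ _)
      right_inv := fun _ => Subtype.ext (ra_apply_inv _ _)
      map_mul' := fun _ _ => Subtype.ext (map_mul γ.1 _ _)
      map_add' := fun _ _ => Subtype.ext (map_add γ.1 _ _) }
  map_one' := rfl
  map_mul' _ _ := rfl

theorem resW_val {W : Subring A} {M : Subgroup (RingAut A)} (hM : Inv M W) (γ : M) (x : W) :
    ((resW W hM γ x : W) : A) = γ.1 x := rfl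

theorem resW_eq_one {W : Subring A} {M : Subgroup (RingAut A)} (hM : Inv M W) {γ : M} :
    resW W hM γ = 1 ↔ γ.1 ∈ DS.Cl.Fix (W : Set A) :=
  ⟨fun h x hx => congrArg Subtype.val (RingEquiv.congr_fun h ⟨x, hx⟩),
    fun h => RingEquiv.ext fun x => Subtype.ext (h x x.2)⟩

theorem resW_ker {W : Subring A} {M : Subgroup (RingAut A)} (hM : Inv M W) :
    (resW W hM).ker = (DS.Cl.Fix (W : Set A)).subgroupOf M := Subgroup.ext fun _ => resW_eq_one hM

theorem aut_cyclic [Finite A] [Nontrivial A] {W : Subring A} (h : IsF W) {p k : ℕ} (hp : p.Prime)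
    (hc : Nat.card W = p ^ k) : Nat.card (RingAut W) = k ∧ IsCyclic (RingAut W) := by
  let := h.isField.toField
  have : Fact p.Prime := ⟨hp⟩
  exact H382.FieldAction.card_ringAut_dvd W hc

theorem exists_card_prime [Finite A] [Nontrivial A] {W : Subring A} (h : IsF W) {p : ℕ} (hp : p.Prime) (h0 : (p : A) = 0) :
    ∃ k, k ≠ 0 ∧ Nat.card W = p ^ k := by
  let := h.isField.toField
  have := Fintype.ofFinite W
  have : Fact p.Prime := ⟨hp⟩
  have : CharP W p := (CharP.charP_iff_prime_eq_zero hp).2 (Subtype.ext (by simpa using h0))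
  obtain ⟨k, -, hk⟩ := FiniteField.card W p
  exact ⟨k, k.ne_zero, by rw [Nat.card_eq_fintype_card, hk]⟩

theorem pow_card [Finite A] [Nontrivial A] {W : Subring A} (h : IsF W) {x : A} (hx : x ∈ W) : x ^ Nat.card W = x := by
  let := h.isField.toField
  have := Fintype.ofFinite W
  rw [Nat.card_eq_fintype_card]
  exact congrArg Subtype.val (FiniteField.pow_card (⟨x, hx⟩ : W))

/-- a subfield is the set of the roots of `X ^ Q - X` -/
theorem mem_of_pow [Finite A] [Nontrivial A] {X Y : Subring A} (hY : IsF Y) (h : X ≤ Y) {y : A} (hy : y ∈ Y)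
    (e : y ^ Nat.card X = y) : y ∈ X := by
  obtain ⟨i, hi⟩ := exists_card_pow hY h
  have h0 : i ≠ 0 := by
    rintro rfl
    have := two_le_card Y
    rw [pow_zero] at hi
    omega
  obtain ⟨W, h1, -, h3⟩ := hY.sub h0 (two_le_card X) hi
  rw [eq_of_le_of_card (X := X) (Y := W) (fun x hx => (h1 x).2 ⟨h hx, pow_card (isF_of_le hY h) hx⟩) h3.le]
  exact (h1 y).2 ⟨hy, e⟩

/-- a `p`-group of automorphisms fixes a non-zero element in every non-zero invariant subgroup -/
theorem exists_fix [Finite A] {p : ℕ} (hp : p.Prime) (h0 : (p : A) = 0) {P : Subgroup (RingAut A)} (hP : IsPGroup p P)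
    (M : AddSubgroup A) (hM : ∀ γ ∈ P, ∀ x ∈ M, γ x ∈ M) (hne : M ≠ ⊥) : ∃ x ∈ M, x ≠ 0 ∧ ∀ γ ∈ P, γ x = x := by
  have : Fact p.Prime := ⟨hp⟩
  let : MulAction P M :=
    { smul := fun γ x => ⟨γ.1 x, hM _ γ.2 _ x.2⟩
      one_smul := fun _ => rfl
      mul_smul := fun _ _ _ => rfl }
  obtain ⟨y, hy, hy0⟩ := (AddSubgroup.bot_or_exists_ne_zero M).resolve_left hne
  have h1 : addOrderOf (⟨y, hy⟩ : M) = p := addOrderOf_eq_prime
    (Subtype.ext (by rw [AddSubgroup.coe_nsmul, nsmul_eq_mul, h0, zero_mul]; rfl)) fun e => hy0 (congrArg Subtype.val e)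
  obtain ⟨x, hx, hx0⟩ := hP.exists_fixed_point_of_prime_dvd_card_of_fixed_point M (h1 ▸ addOrderOf_dvd_natCard _)
    (a := 0) fun γ => Subtype.ext (map_zero γ.1)
  exact ⟨x, x.2, fun e => hx0 (Subtype.ext e.symm), fun γ hγ => congrArg Subtype.val (hx ⟨γ, hγ⟩)⟩

end nostar

variable {A : Type} [Ring A] [StarRing A]

theorem isF_C0 (h : SS A) : IsF (C0 A) := ⟨fun x _ _ hy => cen_comm hy.1 x, fun x hx h0 => by
  obtain ⟨u, rfl⟩ := h.isUnit_of_cen hx.1 hx.2 h0
  refine ⟨_, ⟨inv_cen hx.1, ?_⟩, u.mul_inv⟩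
  have h3 : star ((u⁻¹ : Aˣ) : A) * u = 1 := by rw [← hx.2, ← star_mul, Units.mul_inv, star_one]
  rw [← mul_one (star _), ← u.mul_inv, ← mul_assoc, h3, one_mul]⟩

theorem inv_C0 {M : Subgroup (RingAut A)} (hM : M ≤ SAut A) : Inv M (C0 A) := fun γ hγ _ hz =>
  ⟨map_cen _ hz.1, by rw [← hM hγ, hz.2]⟩

/-- the symmetric elements of a commutative subring -/
def symS (Z : Subring A) (hZ : ∀ x ∈ Z, ∀ y ∈ Z, x * y = y * x) : Subring A where
  carrier := {x | x ∈ Z ∧ star x = x}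
  mul_mem' := fun {a b} ha hb => ⟨Z.mul_mem ha.1 hb.1, by rw [star_mul, ha.2, hb.2, hZ _ hb.1 _ ha.1]⟩
  one_mem' := ⟨Z.one_mem, star_one A⟩
  add_mem' := fun {a b} ha hb => ⟨Z.add_mem ha.1 hb.1, by rw [star_add, ha.2, hb.2]⟩
  zero_mem' := ⟨Z.zero_mem, star_zero A⟩
  neg_mem' := fun {a} ha => ⟨Z.neg_mem ha.1, by rw [star_neg, ha.2]⟩

/-- a field of symmetric elements of prime degree -/
structure SymF (W : Subring A) (r : ℕ) : Prop where
  isF : IsF W
  sym : ∀ x ∈ W, star x = x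
  le : C0 A ≤ W
  prime : r.Prime
  card : Nat.card W = Nat.card (C0 A) ^ r

variable [Finite A]

/-- the symmetric elements of an invariant commutative subring form a field -/
theorem isF_symS (h : SS A) {M : Subgroup (RingAut A)} (hM : M ≤ SAut A) (hI : Irr1 M) {Z : Subring A} (hZ : ComSub Z)
    (hi : Inv M Z) : IsF (symS Z hZ.2.2) := by
  have hs := ss_of_inv h hM hI.1 hI.2 hZ.2.1 hi
  refine ⟨fun x hx y hy => hZ.2.2 x hx.1 y hy.1, fun x hx h0 => ?_⟩
  set B := Blk.ofSubring Z hZ.2.1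
  obtain ⟨y, hy, h1, h2⟩ := Blk.isUnit_val (hs.isUnit_of_cen (c := B.mk' x hx.1)
    (B.mem_center_iff.2 fun y hy => hZ.2.2 y hy x hx.1) (B.val_inj hx.2) fun e => h0 (congrArg B.val e))
  have h3 : x * y = 1 := h1
  have h4 : star y * x = 1 := by rw [← hx.2, ← star_mul, h3, star_one]
  exact ⟨y, ⟨hy, by rw [← mul_one (star y), ← h3, ← mul_assoc, h4, one_mul]⟩, h3⟩

/-- **the reduction** : either all symmetric elements of `Z` are central, or there is an invariant field of symmetric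
elements of prime degree -/
theorem exists_symF (h : SS A) {M : Subgroup (RingAut A)} (hM : M ≤ SAut A) (hI : Irr1 M) {Z : Subring A}
    (hZ : ComSub Z) (hi : Inv M Z) :
    (∀ x ∈ Z, star x = x → x ∈ Subring.center A) ∨ ∃ (W : Subring A) (r : ℕ), SymF W r ∧ W ≤ Z ∧ Inv M W := by
  have := h.nontrivial
  have h1 := isF_symS h hM hI hZ hi
  have h2 : C0 A ≤ symS Z hZ.2.2 := fun x hx => ⟨hZ.1 hx.1, hx.2⟩
  obtain ⟨i, hi'⟩ := exists_card_pow h1 h2
  by_cases h3 : i = 1
  · rw [h3, pow_one] at hi'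
    have h4 := eq_of_le_of_card h2 hi'.le
    exact Or.inl fun x hx hs => (h4.ge (show x ∈ symS Z hZ.2.2 from ⟨hx, hs⟩)).1
  obtain ⟨t, ht⟩ := Nat.minFac_dvd i
  have hq := two_le_card (C0 A)
  have h4 : t ≠ 0 := by
    rintro rfl
    rw [ht, mul_zero, pow_zero] at hi'
    have := two_le_card (symS Z hZ.2.2)
    omega
  obtain ⟨W, a1, a2, a3⟩ := h1.sub (Q := Nat.card (C0 A) ^ i.minFac) h4
    (hq.trans (Nat.le_self_pow (Nat.minFac_pos i).ne' _)) (by rw [← pow_mul, ← ht, hi'])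
  refine Or.inr ⟨W, i.minFac, ⟨a2, fun x hx => ((a1 x).1 hx).1.2, fun x hx => (a1 x).2 ⟨h2 hx, ?_⟩,
    Nat.minFac_prime h3, a3⟩, fun x hx => ((a1 x).1 hx).1.1, fun γ hγ x hx => (a1 _).2 ⟨⟨hi γ hγ x ((a1 x).1 hx).1.1, by
      rw [← hM hγ, ((a1 x).1 hx).1.2]⟩, by rw [← map_pow, ((a1 x).1 hx).2]⟩⟩
  induction i.minFac with
  | zero => rw [pow_zero, pow_one]
  | succ k ih => rw [pow_succ, pow_mul, ih, pow_card (isF_C0 h) hx]

namespace SymF

variable {W : Subring A} {r : ℕ} [Nontrivial A] (h : SymF W r)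
include h

theorem lt_card : r < Nat.card W := by
  rw [h.card]
  exact Nat.lt_pow_self (two_le_card (C0 A))

theorem four_le : 4 ≤ Nat.card W := by
  rw [h.card]
  exact (Nat.pow_le_pow_left (two_le_card (C0 A)) 2).trans
    (Nat.pow_le_pow_right (by have := two_le_card (C0 A); omega) h.prime.two_le)

theorem not_le : ¬ W ≤ Subring.center A := fun e => by
  have h1 := card_le_of_le (X := W) (Y := C0 A) fun x hx => ⟨e hx, h.sym x hx⟩
  have h2 := two_le_card (C0 A)
  have h3 := Nat.pow_lt_pow_right h2 h.prime.one_lt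
  rw [h.card] at h1
  rw [pow_one] at h3
  omega

theorem eq_or {X : Subring A} (h1 : C0 A ≤ X) (h2 : X ≤ W) : X = C0 A ∨ X = W := by
  obtain ⟨i, hi⟩ := exists_card_pow h.isF h2
  obtain ⟨j, hj⟩ := exists_card_pow (isF_of_le h.isF h2) h1
  have h3 : r = j * i := Nat.pow_right_injective (two_le_card (C0 A)) (by
    change _ ^ _ = _ ^ _
    rw [← h.card, hi, hj, pow_mul])
  rcases (Nat.dvd_prime h.prime).1 (Dvd.intro _ h3.symm) with e | e
  · exact Or.inl (eq_of_le_of_card h1 (by rw [hj, e, pow_one])).symm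
  · exact Or.inr (eq_of_le_of_card h2 (by rw [hj, e, h.card]))

theorem pow_fix {γ : RingAut A} (h1 : ∀ x ∈ W, γ x ∈ W) (h2 : ∀ x ∈ C0 A, γ x = x) : γ ^ r ∈ DS.Cl.Fix (W : Set A) := by
  let := (isF_of_le h.isF h.le).isField.toField
  let := h.isF.isField.toField
  let : Algebra (C0 A) W := (Subring.inclusion h.le).toAlgebra
  have h3 : Inv (Subgroup.zpowers γ) W := by
    rintro _ ⟨k, rfl⟩
    obtain ⟨j, hj⟩ := (mem_powers_iff_mem_zpowers (x := γ) (y := γ ^ k)).2 ⟨k, rfl⟩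
    change ∀ x ∈ W, (γ ^ k) x ∈ W
    rw [← hj]
    clear hj
    beta_reduce
    induction j with
    | zero => exact fun x hx => hx
    | succ j ih => exact fun x hx => by rw [pow_succ, ra_mul]; exact ih _ (h1 x hx)
  let σ : W ≃ₐ[C0 A] W := AlgEquiv.ofRingEquiv (f := resW W h3 ⟨γ, Subgroup.mem_zpowers γ⟩)
    fun c => Subtype.ext (h2 _ c.2)
  have h4 : finrank (C0 A) W = r := Nat.pow_right_injective (two_le_card (C0 A))
    ((Module.natCard_eq_pow_finrank (K := C0 A) (V := W)).symm.trans h.card)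
  have h5 : σ ^ r = 1 := by rw [← h4, ← IsGalois.card_aut_eq_finrank, pow_card_eq_one']
  have h6 : ∀ (j : ℕ) (x : W), (((σ ^ j) x : W) : A) = (γ ^ j) x := fun j => by
    induction j with
    | zero => exact fun _ => rfl
    | succ j ih => exact fun x => by rw [pow_succ, pow_succ, ra_mul, AlgEquiv.mul_apply, ih]; rfl
  intro x hx
  rw [← h6 r ⟨x, hx⟩, h5]
  rfl

theorem cyclic : IsCyclic (RingAut W) := by
  let := h.isF.isField.toField
  have := Fintype.ofFinite W
  obtain ⟨p, _, n, hp, h1⟩ := FiniteField.card' W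
  exact (aut_cyclic h.isF hp (by rw [Nat.card_eq_fintype_card, h1])).2

/-- the linear automorphisms act on `W` through a group of order `r` -/
theorem relIndex_dvd {M : Subgroup (RingAut A)} (h1 : Inv M W) (h2 : M ≤ Lin A) : (DS.Cl.Fix (W : Set A)).relIndex M ∣ r := by
  have := h.cyclic
  rw [Subgroup.relIndex, ← resW_ker h1, Subgroup.index_ker, ← IsCyclic.exponent_eq_card]
  refine Monoid.exponent_dvd_of_forall_pow_eq_one ?_
  rintro ⟨_, γ, rfl⟩
  refine Subtype.ext ?_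
  rw [Subgroup.coe_pow, ← map_pow]
  exact (resW_eq_one h1).2 (h.pow_fix (h1 _ γ.2) fun x hx => h2 γ.2 x hx.1)

theorem not_inv {F : FR A} (hsp : F.Span) (hp : F.S ≤ ⁅F.S, F.S⁆) : ¬ Inv F.S W := fun hS => h.not_le fun z hz => by
  have h1 : ⁅F.S, F.S⁆ ≤ DS.Cl.Fix (W : Set A) := by
    rw [Subgroup.commutator_le]
    intro γ hγ δ hδ x hx
    rw [commutatorElement_def, ra_mul, ra_mul, ra_mul, comm_on_dom W h.isF.comm (fun _ => h.isF.isUnit) (hS γ hγ)
      (hS δ hδ) _ (hS _ (inv_mem hγ) _ (hS _ (inv_mem hδ) x hx)), ra_apply_inv, ra_apply_inv]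
  exact FR.cen_of_S hsp fun s hs => h1 (hp hs) z hz

end SymF

end Cfsg.Agent.TH.Cl.Fld
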