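import Cfsg.Agent.SB.Fld.Vec

/-!
# S3541, Singer cycles: two facts on endomorphisms, and the arithmetic (helper9)
-/

set_option autoImplicit false

namespace Cfsg.Agent.TH.Cl.Fld

open Module Polynomial Cfsg.Agent.SB.Fld

section vec

variable {K V : Type} [Field K] [AddCommGroup V] [Module K V] [Module.Finite K V]

/-- an element of determinant one of a Singer field of odd prime degree `r` whose `r`-th power is scalar is scalar -/
theorem scal_of_pow {E : Subalgebra K (End K V)} (h : MaxF E) {r : ℕ} (hr : r.Prime) (h2 : Odd r) (hn : finrank K V = r)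
    {a : End K V} (ha : a ∈ E) {k : K} (hk : a ^ r = k • 1) (hd : LinearMap.det a = 1) : ∃ k' : K, a = k' • 1 := by
  let _ : Field E := h.field.toField
  have : Nontrivial V := Module.nontrivial_of_finrank_pos (R := K) (hn ▸ hr.pos)
  obtain ⟨v, hv⟩ := exists_ne (0 : V)
  obtain ⟨e, -⟩ := h.exists_equiv hv
  have hi : IsIntegral K (⟨a, ha⟩ : E) := IsIntegral.of_finite K _
  have h1 := minpoly.degree_dvd hi
  rw [e.finrank_eq, hn] at h1
  rcases (Nat.dvd_prime hr).1 h1 with h3 | h3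
  · obtain ⟨k', hk'⟩ := minpoly.natDegree_eq_one_iff.1 h3
    exact ⟨k', by rw [← Algebra.algebraMap_eq_smul_one]; exact (congrArg Subtype.val hk').symm⟩
  exfalso
  have h4 := minpoly.irreducible hi
  have h5 := minpoly.monic hi
  rw [← minpoly.algHom_eq E.val Subtype.val_injective] at h3 h4 h5
  change (minpoly K a).natDegree = r at h3
  change Irreducible (minpoly K a) at h4
  change (minpoly K a).Monic at h5
  have h6 : X ^ r - C k = minpoly K a := eq_of_monic_of_dvd_of_natDegree_le h5 (monic_X_pow_sub_C k hr.ne_zero)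
    (minpoly.dvd _ _ (by simp [hk, Algebra.algebraMap_eq_smul_one])) (by rw [h3, natDegree_X_pow_sub_C])
  have h7 : a.charpoly = minpoly K a := eq_of_monic_of_dvd_of_natDegree_le h5 a.charpoly_monic a.minpoly_dvd_charpoly
    (by rw [h3, a.charpoly_natDegree, hn])
  rw [LinearMap.det_eq_sign_charpoly_coeff, h7, ← h6, hn, h2.neg_one_pow] at hd
  have h8 : k = 1 := by simpa [hr.ne_zero.symm, coeff_X_pow] using hd
  rw [← h6, h8] at h4
  have h9 := degree_eq_one_of_irreducible_of_root h4 (x := 1) (by simp)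
  rw [degree_X_pow_sub_C hr.pos] at h9
  exact hr.one_lt.ne' (by exact_mod_cast h9)

omit [Module.Finite K V] in
/-- a regular nilpotent endomorphism of a space of dimension three has a cyclic vector -/
theorem exists_cyc (hn : finrank K V = 3) {ν : End K V} (h3 : ν * ν * ν = 0) (h2 : ν * ν ≠ 0) :
    ∃ v, v ≠ 0 ∧ ∀ D : End K V, D * ν = ν * D → D v = 0 → D = 0 := by
  obtain ⟨v, hv⟩ : ∃ v, ν (ν v) ≠ 0 := by
    by_contra hc
    push Not at hc
    exact h2 (LinearMap.ext hc)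
  have a1 : ∀ x, ν (ν (ν x)) = 0 := fun x => LinearMap.congr_fun h3 x
  have a2 : LinearIndependent K ![v, ν v, ν (ν v)] := by
    rw [Fintype.linearIndependent_iff]
    intro g hg
    rw [Fin.sum_univ_three] at hg
    change g 0 • v + g 1 • ν v + g 2 • ν (ν v) = 0 at hg
    have b1 := congrArg ν hg
    have b2 := congrArg ν b1
    simp only [map_add, map_smul, a1, map_zero, smul_zero, add_zero, smul_eq_zero, hv, or_false] at b1 b2
    simp only [b2, zero_smul, zero_add, smul_eq_zero, hv, or_false] at b1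
    simp only [b1, b2, zero_smul, zero_add, smul_eq_zero, hv, or_false] at hg
    intro i
    fin_cases i
    exacts [b2, b1, hg]
  refine ⟨v, fun e => hv (by rw [e, map_zero, map_zero]), fun D h1 h0 =>
    LinearMap.ext_on_range (a2.span_eq_top_of_card_eq_finrank (by simp [hn])) fun i => ?_⟩
  have a3 : ∀ x, D (ν x) = ν (D x) := fun x => LinearMap.congr_fun h1 x
  fin_cases i <;> simp [a3, h0]

end vec

/-! ### Arithmetic -/

/-- the data: `Q = ± q`, `M = (Q ^ r - 1) / (Q - 1)` -/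
def mm (Q : ℤ) (r : ℕ) : ℕ := (∑ i ∈ Finset.range r, Q ^ i).natAbs

theorem mm_mul (Q : ℤ) (r : ℕ) : mm Q r * (Q - 1).natAbs = (Q ^ r - 1).natAbs := by
  rw [mm, ← Int.natAbs_mul, geom_sum_mul]

theorem odd_mm (Q : ℤ) {r : ℕ} (h : Odd r) : Odd (mm Q r) := by
  obtain ⟨k, rfl⟩ := h
  rw [mm, Int.natAbs_odd]
  induction k with
  | zero => simp
  | succ k ih =>
    rw [show 2 * (k + 1) + 1 = 2 * k + 1 + 1 + 1 by ring, Finset.sum_range_succ, Finset.sum_range_succ, add_assoc]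
    refine ih.add_even ?_
    rw [show Q ^ (2 * k + 1) + Q ^ (2 * k + 1 + 1) = Q ^ (2 * k) * (Q * (Q + 1)) by ring]
    exact (Int.even_mul_succ_self Q).mul_left _

theorem dvd_mm_iff (Q : ℤ) {r : ℕ} (hr : r.Prime) : r ∣ mm Q r ↔ r ∣ (Q - 1).natAbs := by
  have : Fact r.Prime := ⟨hr⟩
  rw [mm, ← Int.natCast_dvd, ← Int.natCast_dvd, ← ZMod.intCast_zmod_eq_zero_iff_dvd, ← ZMod.intCast_zmod_eq_zero_iff_dvd]
  push_cast
  refine ⟨fun h => ?_, fun h => by simp [sub_eq_zero.1 h]⟩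
  have h1 := geom_sum_mul (Q : ZMod r) r
  rw [h, zero_mul, ZMod.pow_card] at h1
  exact h1.symm

theorem mm_le {Q : ℤ} (h : 2 ≤ Q.natAbs) (r : ℕ) : mm Q (r + 1) ≤ 2 * Q.natAbs ^ r := by
  induction r with
  | zero => simp [mm]
  | succ r ih =>
    rw [mm, Finset.sum_range_succ]
    refine (Int.natAbs_add_le _ _).trans ?_
    rw [Int.natAbs_pow, pow_succ]
    change mm Q (r + 1) + _ ≤ _
    nlinarith [Nat.zero_le (Q.natAbs ^ r)]

theorem pow_le_natAbs {Q : ℤ} (h : 2 ≤ Q.natAbs) (i : ℕ) : Q.natAbs ^ i ≤ (Q ^ (i + 1) - 1).natAbs := by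
  have h1 := Int.natAbs_add_le (Q ^ (i + 1) - 1) 1
  rw [sub_add_cancel, Int.natAbs_pow, pow_succ, Int.natAbs_one] at h1
  nlinarith [Nat.one_le_pow i Q.natAbs (by omega)]

/-- the order formula -/
def OrdF (Q : ℤ) (r T : ℕ) : Prop := Nat.gcd r (Q - 1).natAbs * T =
  Q.natAbs ^ (r * (r - 1) / 2) * ∏ i ∈ Finset.range (r - 1), (Q ^ (i + 2) - 1).natAbs

variable {Q : ℤ} {r T : ℕ}

theorem OrdF.sq_dvd (h : OrdF Q r T) (hr : r.Prime) (h3 : 3 ≤ r) (h1 : r ∣ mm Q r) : r ^ 2 ∣ T := by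
  have h2 := (dvd_mm_iff Q hr).1 h1
  rw [OrdF, Nat.gcd_eq_left h2] at h
  refine Nat.dvd_of_mul_dvd_mul_left hr.pos ?_
  obtain ⟨k, rfl⟩ : ∃ k, r = k + 3 := ⟨r - 3, by omega⟩
  rw [h, show k + 3 - 1 = k + 1 + 1 from rfl, Finset.prod_range_succ, Finset.prod_range_succ', ← mm_mul Q (0 + 2),
    ← mm_mul Q (k + 1 + 2), pow_two]
  exact ((mul_dvd_mul ((h2.mul_left _).mul_left _) (mul_dvd_mul h1 h2))).mul_left _

theorem OrdF.eq_three (h : OrdF Q r T) (hq : 2 ≤ Q.natAbs) (hr : r.Prime) (h3 : 3 ≤ r) (hT : T ≤ 9 * r * mm Q r ^ 3) :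
    r = 3 := by
  by_contra h4
  have h5 : 5 ≤ r := hr.five_le_of_ne_two_of_ne_three (by omega) h4
  obtain ⟨k, rfl⟩ : ∃ k, r = k + 2 := ⟨r - 2, by omega⟩
  have a1 : ∀ j, Q.natAbs ^ ((j + 1) ^ 2) ≤
      Q.natAbs ^ ((j + 2) * (j + 1) / 2) * ∏ i ∈ Finset.range j, (Q ^ (i + 2) - 1).natAbs := fun j => by
    induction j with
    | zero => simp
    | succ j ih =>
      rw [Finset.prod_range_succ, show (j + 1 + 2) * (j + 1 + 1) = (j + 2) * (j + 1) + (j + 2) * 2 by ring,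
        Nat.add_mul_div_right _ _ two_pos, show (j + 1 + 1) ^ 2 = (j + 1) ^ 2 + (j + 2) + (j + 1) by ring, pow_add,
        pow_add, pow_add _ (_ / 2)]
      exact (Nat.mul_le_mul (Nat.mul_le_mul_right _ ih) (pow_le_natAbs hq (j + 1))).trans_eq (by ring)
  have a2 := a1 k
  have a3 : 0 < (Q - 1).natAbs := by omega
  have a4 := Nat.gcd_le_right (k + 2) a3
  have a5 := mm_le hq (k + 1)
  have a6 : 0 < mm Q (k + 2) := (odd_mm Q (hr.odd_of_ne_two (by omega))).pos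
  rw [OrdF, show k + 2 - 1 = k + 1 from rfl, Finset.prod_range_succ, ← mul_assoc, ← mm_mul] at h
  generalize Q.natAbs ^ ((k + 2) * (k + 1) / 2) * ∏ i ∈ Finset.range k, (Q ^ (i + 2) - 1).natAbs = P at h a2
  have a7 : P * mm Q (k + 2) ≤ T := Nat.le_of_mul_le_mul_right
    (by rw [mul_assoc, ← h, mul_comm]; exact Nat.mul_le_mul_left _ a4) a3
  have a8 : P ≤ 9 * (k + 2) * mm Q (k + 2) ^ 2 := Nat.le_of_mul_le_mul_right ((a7.trans hT).trans_eq (by ring)) a6
  have a9 : Q.natAbs ^ ((k + 1) * (k - 1)) ≤ 36 * (k + 2) := by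
    refine Nat.le_of_mul_le_mul_right ?_ (show 0 < (Q.natAbs ^ (k + 1)) ^ 2 by positivity)
    rw [← pow_mul, ← pow_add, ← mul_add, show k - 1 + 2 = k + 1 by omega, ← pow_two, pow_mul]
    exact (a2.trans a8).trans ((Nat.mul_le_mul_left _ (Nat.pow_le_pow_left a5 2)).trans_eq (by ring))
  obtain ⟨j, rfl⟩ : ∃ j, k = j + 3 := ⟨k - 3, by omega⟩
  have a10 := (Nat.pow_le_pow_left hq _).trans a9
  rw [show (j + 3 + 1) * (j + 3 - 1) = 8 + (j * j + 6 * j) by rw [show j + 3 - 1 = j + 2 from rfl]; ring, pow_add] at a10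
  have a11 : j * j + 6 * j < 2 ^ (j * j + 6 * j) := Nat.lt_two_pow_self
  nlinarith

/-- the numerical output of the Singer case -/
structure Out (M r T q : ℕ) (small : Prop) (N n : ℕ) : Prop where
  dvd : N ∣ M
  not_dvd : ¬ r ∣ N
  inf : ∃ x, x * n = T ∧ x ∣ r * N
  le : n ≤ (3 * N) ^ 2
  le' : q.Prime → n ≤ N ^ 2
  idx : ∃ k, 2 ≤ k ∧ n = k * N + 1
  sig : small → r = 3 → 2 * T ≤ 2 * N * (2 * N) * 13

theorem Out.three {small : Prop} {N n : ℕ} (o : Out (mm Q r) r T Q.natAbs small N n) (h : OrdF Q r T) (hq : 2 ≤ Q.natAbs)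
    (hr : r.Prime) (h3 : 3 ≤ r) : r = 3 ∧ ∀ j, n ≤ j * N ^ 2 → Nat.gcd 3 (Q - 1).natAbs ^ 2 *
      (Q.natAbs ^ 3 * (Q ^ 2 - 1).natAbs * (Q - 1).natAbs) ≤ 3 * j * mm Q 3 ^ 2 := by
  have a1 : 0 < mm Q r := (odd_mm Q (hr.odd_of_ne_two (by omega))).pos
  have a2 := Nat.le_of_dvd a1 o.dvd
  have a3 : 0 < N := Nat.pos_of_dvd_of_pos o.dvd a1
  obtain ⟨x, hx, a4⟩ := o.inf
  have a5 := Nat.le_of_dvd (Nat.mul_pos hr.pos a3) a4
  obtain rfl := h.eq_three hq hr h3 (by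
    rw [← hx]
    exact (Nat.mul_le_mul a5 o.le).trans ((show r * N * (3 * N) ^ 2 = 9 * r * N ^ 3 by ring).trans_le
      (Nat.mul_le_mul_left _ (Nat.pow_le_pow_left a2 3))))
  refine ⟨rfl, fun j hj => ?_⟩
  have a6 : Nat.gcd 3 (Q - 1).natAbs * N ≤ mm Q 3 := by
    rcases (Nat.dvd_prime hr).1 (Nat.gcd_dvd_left 3 (Q - 1).natAbs) with e | e
    · rwa [e, one_mul]
    · rw [e]
      exact Nat.le_of_dvd a1 (((Nat.Prime.coprime_iff_not_dvd hr).2 o.not_dvd).mul_dvd_of_dvd_of_dvd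
        ((dvd_mm_iff Q hr).2 (e ▸ Nat.gcd_dvd_right _ _)) o.dvd)
  have a7 : Nat.gcd 3 (Q - 1).natAbs * T = Q.natAbs ^ 3 * (Q ^ 2 - 1).natAbs * (Q - 1).natAbs * mm Q 3 := by
    rw [h, Finset.prod_range_succ, Finset.prod_range_one, ← mm_mul Q (1 + 2)]
    ring
  generalize Nat.gcd 3 (Q - 1).natAbs = g at a6 a7
  refine Nat.le_of_mul_le_mul_right ?_ a1
  rw [mul_assoc, ← a7, ← hx]
  calc g ^ 2 * (g * (x * n)) ≤ g ^ 2 * (g * (3 * N * (j * N ^ 2))) := by gcongr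
    _ = 3 * j * (g * N) ^ 3 := by ring
    _ ≤ 3 * j * mm Q 3 ^ 3 := by gcongr
    _ = _ := by ring

theorem Out.not_L {q N n : ℕ} (o : Out (mm q r) r T q (q = 3) N n) (h : OrdF q r T) (hq : IsPrimePow q)
    (hr : r.Prime) (h3 : 3 ≤ r) : False := by
  have h2 := hq.two_le
  obtain ⟨rfl, a1⟩ := Out.three (Q := q) o h h2 hr h3
  have a2 := a1 9 (o.le.trans_eq (by ring))
  have a3 := fun e => a1 1 ((o.le' e).trans_eq (one_mul _).symm)
  obtain ⟨x, hx, a4⟩ := o.inf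
  obtain ⟨k, hk, a5⟩ := o.idx
  have a6 := o.dvd
  have a7 := o.sig
  have a8 := o.le'
  by_cases h7 : 7 ≤ q
  · obtain ⟨t, rfl⟩ := Nat.exists_eq_add_of_le h7
    have b1 : mm (7 + t : ℕ) 3 = t ^ 2 + 15 * t + 57 := by
      rw [mm, ← Int.natAbs_natCast (t ^ 2 + 15 * t + 57)]
      simp [Finset.sum_range_succ]
      ring_nf
    have b2 : (((7 + t : ℕ) : ℤ) - 1).natAbs = t + 6 := by omega
    have b3 : (((7 + t : ℕ) : ℤ) ^ 2 - 1).natAbs = t ^ 2 + 14 * t + 48 := by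
      rw [← Int.natAbs_natCast (t ^ 2 + 14 * t + 48)]
      push_cast
      ring_nf
    rw [b1, b2, b3, Int.natAbs_natCast] at a2
    have b4 := (Nat.le_mul_of_pos_left _ (pow_pos (Nat.gcd_pos_of_pos_left (t + 6) three_pos) 2)).trans a2
    ring_nf at b4
    omega
  have b0 : ∀ z : ℤ, mm z 3 = (1 + z + z ^ 2).natAbs := fun z => by simp [mm, Finset.sum_range_succ]
  rw [OrdF, Finset.prod_range_succ, Finset.prod_range_one] at h
  rw [b0] at a2 a3 a6
  push Not at h7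
  interval_cases q
  · norm_num at h a6
    have b1 := a8 Nat.prime_two
    rcases (Nat.dvd_prime (by norm_num)).1 a6 with rfl | rfl
    · omega
    · have b2 := Nat.le_of_dvd (by norm_num) a4
      rw [h, a5] at hx
      interval_cases x <;> omega
  · norm_num at h a6
    have b1 := Nat.le_of_dvd (by norm_num) a6
    have b2 := a7 rfl rfl
    nlinarith
  · norm_num at a2
  · norm_num at a3
  · exact absurd hq (by decide)

theorem Out.not_U {q N n : ℕ} {small : Prop} (o : Out (mm (-q) r) r T q small N n) (h : OrdF (-q) r T) (hq : 3 ≤ q ∨ q = 2 ∧ r ≠ 3)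
    (hr : r.Prime) (h3 : 3 ≤ r) : False := by
  have e : (-q : ℤ).natAbs = q := by simp
  obtain ⟨rfl, a1⟩ := Out.three (Q := -q) (by rwa [e]) h (by omega) hr h3
  have a2 := a1 9 (o.le.trans_eq (by ring))
  have a3 := fun e => a1 1 ((o.le' e).trans_eq (one_mul _).symm)
  have b0 : ∀ z : ℤ, mm z 3 = (1 + z + z ^ 2).natAbs := fun z => by simp [mm, Finset.sum_range_succ]
  rw [b0] at a2 a3
  by_cases h4 : q = 3
  · subst h4
    norm_num at a3
  obtain ⟨t, rfl⟩ := Nat.exists_eq_add_of_le (show 4 ≤ q by omega)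
  have b1 : (1 + -((4 + t : ℕ) : ℤ) + (-((4 + t : ℕ) : ℤ)) ^ 2).natAbs = t ^ 2 + 7 * t + 13 := by
    rw [← Int.natAbs_natCast (t ^ 2 + 7 * t + 13)]
    push_cast
    ring_nf
  have b2 : (-((4 + t : ℕ) : ℤ) - 1).natAbs = t + 5 := by omega
  have b3 : ((-((4 + t : ℕ) : ℤ)) ^ 2 - 1).natAbs = t ^ 2 + 8 * t + 15 := by
    rw [← Int.natAbs_natCast (t ^ 2 + 8 * t + 15)]
    push_cast
    ring_nf
  rw [b1, b2, b3, e] at a2
  have b4 := (Nat.le_mul_of_pos_left _ (pow_pos (Nat.gcd_pos_of_pos_left (t + 5) three_pos) 2)).trans a2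
  ring_nf at b4
  omega

end Cfsg.Agent.TH.Cl.Fld
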