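import Cfsg.Agent.TH.Cl.FldLU.Big
import Cfsg.Agent.TH.Cl.FldLU.Lines
import Cfsg.Agent.TH.Cl.FldLU.Num

/-!
# S3541, linear and unitary groups: normalisers of Singer cycles (helper9)
-/

set_option autoImplicit false

namespace Cfsg.Agent.TH.Cl.Fld

open Cfsg.Agent.DS.Cl Cfsg.Agent.DS.Cl.Fwd Cfsg.Agent.SB.Cl Cfsg.Agent.SB.C2 Cfsg.Agent.SB.Fld Module

variable {A : Type} [Ring A] [StarRing A] {K V : Type} [Field K] [AddCommGroup V] [Module K V]
  {π : A →+* End K V} {c η θ : A} {W : Subring A} {r : ℕ}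

theorem cen_of_scal [Nontrivial V] (h : LU π c η θ) {u : A} (hu : u * star u = 1) {k : K} (hk : π u = k • 1) :
    u ∈ Subring.center A := by
  have h1 := congrArg π hu
  rw [map_mul, map_one, hk, smul_mul_assoc, one_mul] at h1
  have h2 : k ≠ 0 := fun e => by
    rw [e, zero_smul] at h1
    exact zero_ne_one h1
  exact h.cen_of hk (k' := k⁻¹) (by rw [← h1, smul_smul, inv_mul_cancel₀ h2, one_smul])

theorem cen_of_tr (h : LU π c η θ) {u : A} (h1 : u + star u ∈ Subring.center A)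
    (h2 : star θ * u + star (star θ * u) ∈ Subring.center A) : u ∈ Subring.center A := by
  obtain ⟨t, ht⟩ := h.θ_unit
  have h3 : (t : A) ∈ Subring.center A := ht ▸ sub_mem h.θ_cen (star_cen h.θ_cen)
  have h4 := mul_mem (inv_cen h3) (sub_mem (mul_mem h.θ_cen h1) h2)
  rwa [star_mul, star_star, cen_comm h.θ_cen, mul_add, add_sub_add_right_eq_sub, ← sub_mul, ← ht,
    Units.inv_mul_cancel_left] at h4

theorem theta_cases (h : LU π c η θ) {γ : RingAut A} (hγ : γ ∈ SAut A) (h0 : ∀ x ∈ C0 A, γ x = x) :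
    γ θ = θ ∨ γ θ = star θ := by
  have h1 : γ θ + star (γ θ) = θ + star θ := by
    rw [← hγ, ← map_add, h0 _ ⟨add_mem h.θ_cen (star_cen h.θ_cen), by rw [star_add, star_star, add_comm]⟩]
  have h2 : γ θ * star (γ θ) = θ * star θ := by
    rw [← hγ, ← map_mul, h0 _ ⟨mul_mem h.θ_cen (star_cen h.θ_cen), by rw [star_mul, star_star]⟩]
  obtain ⟨a, ha⟩ := h.scal_of h.θ_cen
  obtain ⟨a', ha'⟩ := h.scal_of (star_cen h.θ_cen)
  obtain ⟨b, hb⟩ := h.scal_of (map_cen γ h.θ_cen)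
  obtain ⟨b', hb'⟩ := h.scal_of (star_cen (map_cen γ h.θ_cen))
  have h3 : ∀ x y : A, γ θ + star (γ θ) = x + star x → π (γ θ) = π x → γ θ = x := fun x _ e1 e2 =>
    sub_eq_zero.1 (h.sep _ (by rw [map_sub, e2, sub_self]) (by
      have e3 := congrArg π e1
      rw [map_add, map_add, e2, add_right_inj] at e3
      rw [star_sub, map_sub, e3, sub_self]))
  have h4 : ((b - a) * (b - a')) • (1 : End K V) = 0 := by
    have e1 := congrArg π h1
    have e2 := congrArg π h2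
    rw [map_add, map_add, ha, ha', hb, hb', ← add_smul, ← add_smul] at e1
    rw [map_mul, map_mul, ha, ha', hb, hb', smul_mul_smul_comm, smul_mul_smul_comm, one_mul] at e2
    rw [show (b - a) * (b - a') = b * (b + b') - b * (a + a') + (a * a' - b * b') by ring, add_smul, sub_smul, sub_smul,
      mul_smul b, mul_smul b (a + a'), e1, e2, sub_self, sub_self, add_zero]
  rcases smul_eq_zero.1 h4 with e | e
  · rcases mul_eq_zero.1 e with e | e
    · exact Or.inl (h3 θ θ h1 (by rw [ha, hb, sub_eq_zero.1 e]))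
    · exact Or.inr (h3 _ θ (by rw [h1, star_star, add_comm]) (by rw [ha', hb, sub_eq_zero.1 e]))
  · exact Or.inl (h3 θ θ h1 (by rw [← mul_one (π _), ← mul_one (π θ), e, mul_zero, mul_zero]))

omit [StarRing A] in
theorem det_eq_one (π : A →+* End K V) {X : Subgroup Aˣ} {u : Aˣ} (hu : u ∈ (⁅X, X⁆ : Subgroup Aˣ)) :
    LinearMap.det (π u) = 1 := by
  let φ : Aˣ →* Kˣ := (LinearMap.det.comp (π.toMonoidHom.comp (Units.coeHom A))).toHomUnits
  have h1 : (⁅X, X⁆ : Subgroup Aˣ) ≤ φ.ker := Subgroup.commutator_le.2 fun a _ b _ => by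
    rw [MonoidHom.mem_ker, map_commutatorElement, commutatorElement_eq_one_iff_mul_comm, mul_comm]
  exact congrArg Units.val (h1 hu)

/-- the unitary elements of `Z` -/
def UZ (Z : Subring A) (hZ : ∀ x ∈ Z, star x ∈ Z) : Subgroup Aˣ where
  carrier := {u | (u : A) ∈ Z ∧ (u : A) * star (u : A) = 1}
  mul_mem' := fun {a b} ha hb => ⟨mul_mem ha.1 hb.1, by
    rw [Units.val_mul, star_mul, mul_assoc, ← mul_assoc (b : A), hb.2, one_mul, ha.2]⟩
  one_mem' := ⟨one_mem Z, by simp⟩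
  inv_mem' := fun {a} ha => by
    refine ⟨star_eq_inv ha.2 ▸ hZ _ ha.1, ?_⟩
    rw [star_eq_inv ha.2, star_star, ← star_eq_inv ha.2, Units.inv_mul]

/-- the Singer case -/
structure Sg (π : A →+* End K V) (c η θ : A) (W : Subring A) (r : ℕ) : Prop where
  lu : LU π c η θ
  sf : SymF W r
  mx : MaxF (lu.img (Zt W θ) (comSub lu sf).1)
  dim : finrank K V = r
  three : 3 ≤ r

namespace Sg

variable (s : Sg π c η θ W r)
include s

theorem nontrivial : Nontrivial V := Module.nontrivial_of_finrank_pos (R := K) (s.dim ▸ s.sf.prime.pos)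

theorem cent {a : A} (ha : ∀ z ∈ Zt W θ, z * a = a * z) : a ∈ Zt W θ := s.lu.cent (comSub s.lu s.sf) s.mx ha

theorem mem_of_fix {u : Aˣ} (hu : DS.Cl.cj A u ∈ DS.Cl.Fix (Zt W θ : Set A)) : (u : A) ∈ Zt W θ :=
  s.cent fun z hz => by rw [← cj_mul_eq, hu z hz]

variable [Finite A] [Nontrivial A]

theorem exists_uni (ss : SS A) {γ : RingAut A} (h1 : γ ∈ SAut A) (h2 : γ ∈ DS.Cl.Fix (Zt W θ : Set A)) :
    ∃ u ∈ UZ _ (comSub s.lu s.sf).2.1, DS.Cl.cj A u = γ := by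
  have hZ := comSub s.lu s.sf
  obtain ⟨u, rfl⟩ := ss.sn (γ := γ) fun d hd => h2 d (hZ.1 hd)
  have hu := s.mem_of_fix h2
  have a1 : star (u : A) * u ∈ C0 A := ⟨cj_SAut_cen h1, by rw [star_mul, star_star]⟩
  obtain ⟨y, hy, a2⟩ := (isF_C0 ss).inv _ a1 (u.isUnit.star.mul u.isUnit).ne_zero
  have a3 : Qd (C0 A) θ := ⟨isF_C0 ss, fun _ hx => hx.2, fun x _ => cen_comm s.lu.θ_cen x,
    ⟨add_mem s.lu.θ_cen (star_cen s.lu.θ_cen), by rw [star_add, star_star, add_comm]⟩,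
    ⟨mul_mem s.lu.θ_cen (star_cen s.lu.θ_cen), by rw [star_mul, star_star]⟩, s.lu.θ_unit⟩
  obtain ⟨z, hz, a4⟩ := a3.norm_surj hy
  have a5 : z ∈ Subring.center A := Zt_le (W := C0 A) (fun _ hx => hx.1) s.lu.θ_cen hz
  have a6 : u * z * star (u * z) = 1 := by
    rw [star_mul, mul_assoc, ← mul_assoc z, cen_comm (star_cen a5), a4, ← cen_comm hy.1, ← mul_assoc,
      hZ.2.2 _ hu _ (hZ.2.1 _ hu), a2]
  refine ⟨mkU _ a6, ⟨mul_mem hu (hZ.1 a5), a6⟩, cj_eq_iff.2 ⟨u⁻¹ * mkU _ a6, ?_, (mul_inv_cancel_left _ _).symm⟩⟩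
  rwa [Units.val_mul, mkU_val, Units.inv_mul_cancel_left]

omit [Nontrivial A] in
theorem cyclic : IsCyclic (UZ _ (comSub s.lu s.sf).2.1) := by
  let _ := s.mx.field.toField
  let φ : UZ _ (comSub s.lu s.sf).2.1 →* s.lu.img (Zt W θ) (comSub s.lu s.sf).1 :=
    { toFun := fun u => ⟨π u.1, _, u.2.1, rfl⟩
      map_one' := Subtype.ext (map_one π)
      map_mul' := fun _ _ => Subtype.ext (map_mul π _ _) }
  refine isCyclic_of_injective_ringHom φ ((injective_iff_map_eq_one φ).2 fun u hu => Subtype.ext (Units.ext ?_))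
  have h1 : π u.1 = 1 := congrArg Subtype.val hu
  have h2 := congrArg π u.2.2
  rw [map_mul, h1, one_mul] at h2
  exact sub_eq_zero.1 (s.lu.sep _ (by rw [map_sub, h1]; simp) (by rw [star_sub, map_sub, h2]; simp))

omit [Finite A] [Nontrivial A] in
/-- a linear automorphism of order three in characteristic three which moves `W` is a regular unipotent element -/
theorem sq_ne {y : Aˣ} (h1 : ∀ w ∈ W, DS.Cl.cj A y w ∈ W) (h2 : DS.Cl.cj A y ∉ DS.Cl.Fix (W : Set A)) {k : K}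
    (hk : 2 * k ≠ 0) : (π y - k • 1) * (π y - k • 1) ≠ 0 := fun h0 => h2 fun e he => by
  have a1 : ∀ w, π (DS.Cl.cj A y w) * π y = π y * π w := fun w => by rw [← map_mul, cj_mul_eq, map_mul]
  have a2 : π y * π y = (2 * k) • π y - (k * k) • 1 := by
    rw [← sub_eq_zero, ← h0]
    simp only [sub_mul, mul_sub, smul_mul_assoc, mul_smul_comm, one_mul, mul_one]
    module
  by_contra h3
  have h4 := sub_mem (h1 _ he) (h1 _ (h1 _ he))
  obtain ⟨w, hw, a3⟩ := s.sf.isF.inv _ h4 fun e1 => h3 ((DS.Cl.cj A y).injective (sub_eq_zero.1 e1)).symm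
  have a4 : π (DS.Cl.cj A y (DS.Cl.cj A y e)) * (π y * π y) = π y * π y * π e := by
    rw [← mul_assoc, a1, mul_assoc, a1, mul_assoc]
  have a5 : (2 * k) • (π (DS.Cl.cj A y e - DS.Cl.cj A y (DS.Cl.cj A y e)) * π y) =
      (k * k) • π (e - DS.Cl.cj A y (DS.Cl.cj A y e)) := by
    rw [a2, mul_sub, sub_mul, mul_smul_comm, mul_smul_comm, smul_mul_assoc, smul_mul_assoc, ← a1, mul_one, one_mul,
      sub_eq_sub_iff_sub_eq_sub] at a4
    rw [map_sub, map_sub, sub_mul, smul_sub, smul_sub, ← neg_sub, a4, neg_sub]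
  have a6 : π y = ((2 * k)⁻¹ * (k * k)) • π (w * (e - DS.Cl.cj A y (DS.Cl.cj A y e))) := by
    rw [map_mul, mul_smul, ← mul_smul_comm (k * k), ← a5, mul_smul_comm, smul_smul, inv_mul_cancel₀ hk, one_smul,
      ← mul_assoc, ← map_mul, s.sf.isF.comm _ hw _ h4, a3, map_one, one_mul]
  have a7 : π y * π e = π e * π y := by
    rw [a6, smul_mul_assoc, mul_smul_comm, ← map_mul, ← map_mul,
      s.sf.isF.comm _ (mul_mem hw (sub_mem he (h1 _ (h1 _ he)))) _ he]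
  have a8 := (y.isUnit.map π).mul_right_cancel ((a1 e).trans a7)
  exact h3 (sub_eq_zero.1 (s.lu.sep_symm (s.sf.sym _ (sub_mem (h1 _ he) he)) (by rw [map_sub, a8, sub_self])))

omit [Finite A] [Nontrivial A] in
theorem card_cent [Finite V] (hK : Nat.card K = 3) (h3 : r = 3) (F : FR A) {x : RingAut A} (hx : x ∈ F.S) (h0 : x ^ 3 = 1)
    (h1 : ∀ w ∈ W, x w ∈ W) (h2 : x ∉ DS.Cl.Fix (W : Set A)) :
    Nat.card ↥(Subgroup.centralizer {x} ⊓ F.S) ≤ 13 := by
  have := s.nontrivial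
  have : Finite K := Nat.finite_of_card_ne_zero (by omega)
  have := Fintype.ofFinite K
  have k3 : ∀ k : K, k ^ 3 = k := fun k => by rw [← hK, Nat.card_eq_fintype_card, FiniteField.pow_card]
  have k0 : (3 : K) = 0 := by
    have := FiniteField.cast_card_eq_zero K
    rwa [← Nat.card_eq_fintype_card, hK] at this
  obtain ⟨y, hy, rfl⟩ := hx
  obtain ⟨k, hk⟩ := s.lu.scal_of (cj_eq_one_iff.1 (by rwa [map_pow] : DS.Cl.cj A (y ^ 3) = 1))
  rw [Units.val_pow_eq_pow_val, map_pow] at hk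
  have a1 : k ≠ 0 := fun e => by
    rw [e, zero_smul] at hk
    exact ((y.isUnit.map π).pow 3).ne_zero hk
  obtain ⟨v, hv, a2⟩ := exists_cyc (s.dim.trans h3) (ν := π y - k • 1) (by
    have b1 : (π y - k • 1) * (π y - k • 1) * (π y - k • 1) =
        π y ^ 3 - k ^ 3 • 1 - (3 * k) • (π y * π y) + (3 * (k * k)) • π y := by
      simp only [sub_mul, mul_sub, smul_mul_assoc, mul_smul_comm, one_mul, mul_one, pow_succ, pow_zero]
      module
    rw [b1, hk, k3, k0]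
    simp) (s.sq_ne h1 h2 (mul_ne_zero (fun e => one_ne_zero (α := K) (by linear_combination k0 - e)) a1))
  have a3 : ∀ t : ↥(Subgroup.centralizer {DS.Cl.cj A y} ⊓ F.S), ∃ u ∈ F.Iso, DS.Cl.cj A u = t ∧ π u * π y = π y * π u := by
    rintro ⟨_, ht, u, hu, rfl⟩
    refine ⟨u, F.comm_le_Iso hu, rfl, ?_⟩
    have b1 := ht _ rfl
    rw [← map_mul, ← map_mul, cj_eq_iff] at b1
    obtain ⟨z, hz, b1⟩ := b1
    obtain ⟨l, hl⟩ := s.lu.scal_of hz
    have b2 := congrArg (fun a : Aˣ => π a) b1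
    simp only [Units.val_mul, map_mul, hl, mul_smul_comm, mul_one] at b2
    have b3 := congrArg LinearMap.det b2
    rw [LinearMap.det_smul, map_mul, map_mul, det_eq_one π hy, det_eq_one π hu, s.dim, h3, k3] at b3
    rw [b2, show l = 1 by simpa using b3.symm, one_smul]
  choose f f1 f2 f3 using a3
  have a4 : Function.Injective fun a : ↥(Subgroup.centralizer {DS.Cl.cj A y} ⊓ F.S) × Kˣ => (a.2 : K) • π (f a.1) v := by
    rintro ⟨t, l⟩ ⟨t', l'⟩ (e : (l : K) • π (f t) v = (l' : K) • π (f t') v)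
    have b1 := sub_eq_zero.1 (a2 ((l : K) • π (f t) - (l' : K) • π (f t')) (by
      simp only [sub_mul, mul_sub, smul_mul_assoc, mul_smul_comm, one_mul, mul_one, f3, smul_sub, smul_comm k]
      abel) (by simp [e]))
    have b2 : π ((f t')⁻¹ * f t : Aˣ) = ((l : K)⁻¹ * l') • 1 := by
      rw [Units.val_mul, map_mul, (eq_inv_smul_iff₀ l.ne_zero).2 b1, mul_smul_comm, mul_smul_comm, ← map_mul,
        Units.inv_mul, map_one, mul_smul]
    have b3 := cj_eq_one_iff.2 (cen_of_scal s.lu (FR.Iso.ms (mul_mem (inv_mem (f1 t')) (f1 t))) b2)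
    rw [map_mul, map_inv, f2, f2, inv_mul_eq_one] at b3
    obtain rfl : t' = t := Subtype.ext b3
    exact Prod.ext rfl (Units.ext (smul_left_injective K ((f t').isUnit.map π).ne_zero b1))
  have a5 := Nat.card_le_card_of_injective _ a4
  rw [Nat.card_prod, Nat.card_units, Module.natCard_eq_pow_finrank (K := K) (V := V), hK, s.dim, h3] at a5
  omega

variable {F : FR A} {G H : Subgroup (RingAut A)} {m p : ℕ} (cx : Ctx F G H m p) (hH : Inv H W)
include cx hH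

theorem free (h0 : ¬ r ∣ Nat.card ↥(H ⊓ DS.Cl.Fix (Zt W θ : Set A))) {g : RingAut A} (hg : g ∈ G) (hn : g ∉ H)
    {x : RingAut A} (h1 : x ∈ H ⊓ DS.Cl.Fix (Zt W θ : Set A)) (h2 : x ∈ TH.cj g H) : x = 1 := by
  have hZ := comSub s.lu s.sf
  have a1 : x ∈ Lin A := fun d hd => h1.2 d (hZ.1 hd)
  have a2 : g⁻¹ * x * g ∈ Lin A := by simpa using Lin_conj a1 g⁻¹
  have a3 := fix_Zt s.lu (s.sf.pow_fix (hH _ (TH.mem_cj.1 h2)) fun d hd => a2 d hd.1) (pow_mem a2 r)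
  obtain ⟨u, hu, a4⟩ := s.exists_uni cx.ss (cx.le_SAut (pow_mem h1.1 r)) (pow_mem h1.2 r)
  have a5 : (g⁻¹ * x * g) ^ r = DS.Cl.cj A (um g⁻¹ u) := by
    rw [← conj_cj, a4, ← conj_pow, inv_inv]
  have a6 : g⁻¹ (u : A) ∈ Zt W θ := s.mem_of_fix (a5 ▸ a3)
  have a7 : g⁻¹ ∈ SAut A := F.Aut_le_SAut (cx.le (inv_mem hg))
  rcases s.sf.eq_or (X := W ⊓ W.comap ((g⁻¹ : RingAut A) : A →+* A))
    (fun d hd => ⟨s.sf.le hd, s.sf.le (inv_C0 le_rfl _ a7 d hd)⟩) inf_le_left with e | e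
  · have a8 : ∀ d ∈ Subring.center A, d * u + star (d * u) ∈ Subring.center A := fun d hd =>
      (e.le ⟨(qd s.lu s.sf).trace_mem (mul_mem (hZ.1 hd) hu.1), show g⁻¹ (d * u + star (d * u)) ∈ W by
        rw [map_add, a7, map_mul]
        exact (qd s.lu s.sf).trace_mem (mul_mem (hZ.1 (map_cen _ hd)) a6)⟩).1
    have a9 := cj_eq_one_iff.2 (cen_of_tr s.lu (by simpa using a8 1 (one_mem _)) (a8 _ (star_cen s.lu.θ_cen)))
    rw [a4] at a9
    exact orderOf_eq_one_iff.1 (Nat.eq_one_of_dvd_coprimes ((Nat.Prime.coprime_iff_not_dvd s.sf.prime).2 h0)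
      (orderOf_dvd_of_pow_eq_one a9) (Subgroup.orderOf_dvd_natCard _ h1))
  · exact absurd (inv_mem_iff.1 (cx.mem_of_inv hH (s.sf.not_inv cx.span (perfect_of_simple cx.simple cx.noncomm))
      (inv_mem hg) fun w hw => (e.ge hw).2)) hn

theorem out [Finite V] {M : ℕ} (hM : ∀ u ∈ Zt W θ, u * star u = 1 → u ^ M ∈ Subring.center A) (hodd : Odd M)
    (hr : r ∣ M → r ^ 2 ∣ Nat.card F.S) : Out M r (Nat.card F.S) (Nat.card (C0 A)) (Nat.card K = 3)
      (Nat.card ↥(H ⊓ DS.Cl.Fix (Zt W θ : Set A))) (H.relIndex G) := by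
  have : Module.Finite K V := Module.Finite.of_finite
  have hZ := comSub s.lu s.sf
  have hp := s.sf.prime
  have hZH := inv_Zt s.lu s.sf hH
  set N := H ⊓ DS.Cl.Fix (Zt W θ : Set A)
  have n1 : N ≤ (UZ _ hZ.2.1).map (DS.Cl.cj A) := fun x hx => s.exists_uni cx.ss (cx.le_SAut hx.1) hx.2
  have n2 : IsCyclic N := by
    have := s.cyclic
    have := isCyclic_of_surjective _ ((DS.Cl.cj A).subgroupMap_surjective (UZ _ hZ.2.1))
    exact isCyclic_of_injective _ (Subgroup.inclusion_injective n1)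
  have n3 : Nat.card N ∣ M := by
    rw [← IsCyclic.exponent_eq_card]
    refine Monoid.exponent_dvd_of_forall_pow_eq_one fun x => Subtype.ext ?_
    obtain ⟨u, hu, e⟩ := n1 x.2
    rw [Subgroup.coe_pow, ← e, ← map_pow]
    exact cj_eq_one_iff.2 (hM _ hu.1 hu.2)
  have n4 : ∀ a ∈ H, ∀ x ∈ N, a * x * a⁻¹ ∈ N := fun a ha x hx =>
    ⟨H.mul_mem (H.mul_mem ha hx.1) (H.inv_mem ha), fun z hz => by
      rw [ra_mul, ra_mul, hx.2 _ (hZH _ (inv_mem ha) z hz), ra_apply_inv]⟩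
  have n5 : ∀ a ∈ N, ∀ b ∈ N, a * b = b * a := fun a ha b hb =>
    congrArg Subtype.val (n2.isMulCommutative.is_comm.comm (⟨a, ha⟩ : N) ⟨b, hb⟩)
  have n6 : Nat.card N ∣ Nat.card H / m := by
    obtain ⟨x, hx⟩ := IsCyclic.exists_ofOrder_eq_natCard (α := N)
    rw [← hx, ← Subgroup.orderOf_coe]
    exact cx.in.orderOf_dvd_d inf_le_left n4 n5 x.2
  have x1 : H ⊓ F.S ≤ Lin A := fun γ hγ => F.PI_le_Lin (F.S_le_PI hγ.2)
  have x2 : (DS.Cl.Fix (W : Set A)).subgroupOf (H ⊓ F.S) = N.subgroupOf (H ⊓ F.S) := Subgroup.ext fun γ =>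
    ⟨fun h => ⟨γ.2.1, fix_Zt s.lu h (x1 γ.2)⟩, fun h w hw => h.2 w (le_Zt hw)⟩
  have x3 : N.relIndex (H ⊓ F.S) ∣ r := by
    rw [Subgroup.relIndex, ← x2]
    exact s.sf.relIndex_dvd (fun γ hγ => hH γ hγ.1) x1
  have x4 := (N.subgroupOf (H ⊓ F.S)).index_mul_card
  have x5 : Nat.card (N.subgroupOf (H ⊓ F.S)) ∣ Nat.card N := by
    rw [← Subgroup.inf_subgroupOf_right, In.card_sub inf_le_right]
    exact Subgroup.card_dvd_of_le inf_le_left
  have n7 : ¬ r ∣ Nat.card N := fun h0 => by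
    have : Fact r.Prime := ⟨hp⟩
    have b1 := hr (h0.trans n3)
    rw [← cx.card_inf_mul, ← x4] at b1
    have b2 := (Nat.Coprime.pow_left 2 ((Nat.Prime.coprime_iff_not_dvd hp).2
      fun e => cx.in.not_dvd_d hp e (h0.trans n6))).dvd_of_dvd_mul_right b1
    obtain ⟨x, hx⟩ := exists_prime_orderOf_dvd_card' (G := N.subgroupOf (H ⊓ F.S)) r
      (Nat.dvd_of_mul_dvd_mul_left hp.pos (pow_two r ▸ b2.trans (mul_dvd_mul_right x3 _)))
    rw [← Subgroup.orderOf_coe, ← Subgroup.orderOf_coe] at hx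
    obtain ⟨u, hu, e⟩ := x.1.2.2
    obtain ⟨k, hk⟩ := s.lu.scal_of (cj_eq_one_iff.1 (by rw [map_pow, e, ← hx, pow_orderOf_eq_one] :
      DS.Cl.cj A (u ^ r) = 1))
    rw [Units.val_pow_eq_pow_val, map_pow] at hk
    obtain ⟨k', hk'⟩ := scal_of_pow s.mx hp (hp.odd_of_ne_two (by have := s.three; omega)) s.dim
      ⟨_, s.mem_of_fix (e ▸ x.2.2), rfl⟩ hk (det_eq_one π hu)
    have := s.nontrivial
    rw [← e, cj_eq_one_iff.2 (cen_of_scal s.lu (FR.Iso.ms (F.comm_le_Iso hu)) hk'), orderOf_one] at hx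
    exact hp.one_lt.ne hx
  have t1 : ∀ a : H, resW W hH a = 1 → a.1 ∉ N → a.1 θ = star θ := fun a h1 h2 =>
    (theta_cases s.lu (cx.le_SAut a.2) fun x hx => (resW_eq_one hH).1 h1 x (s.sf.le hx)).resolve_left fun e =>
      h2 ⟨a.2, fun _ hz => Zt_le (X := RingHom.eqLocus (a.1 : A →+* A) (RingHom.id A)) ((resW_eq_one hH).1 h1) e hz⟩
  have := s.sf.cyclic
  obtain ⟨l1, l2⟩ := cx.in.index_le_dih (N := N) (resW W hH) inf_le_left
    (fun g hg hn x h1 h2 => s.free cx hH n7 hg hn h1 h2)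
    (fun a ha b hb => ⟨H.mul_mem (H.mul_mem (H.mul_mem ha hb) (H.inv_mem ha)) (H.inv_mem hb), fix_Zt s.lu (fun x hx => by
      rw [ra_mul, ra_mul, ra_mul, comm_on_dom W s.sf.isF.comm (fun _ => s.sf.isF.isUnit) (hH a ha) (hH b hb) _
        (hH _ (inv_mem ha) _ (hH _ (inv_mem hb) x hx)), ra_apply_inv, ra_apply_inv])
      (cx.ss.commutator_SAut (Subgroup.commutator_mem_commutator (cx.le_SAut ha) (cx.le_SAut hb)))⟩)
    (fun a b h1 h2 h3 h4 => ⟨H.mul_mem (H.inv_mem a.2) b.2, fun _ hz =>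
      Zt_le (X := RingHom.eqLocus ((a.1⁻¹ * b.1 : RingAut A) : A →+* A) (RingHom.id A))
        (mul_mem (inv_mem ((resW_eq_one hH).1 h1)) ((resW_eq_one hH).1 h2))
        (show (a.1⁻¹ * b.1) θ = θ by rw [ra_mul, t1 b h2 h4, ← t1 a h1 h3, ra_inv_apply]) hz⟩)
    (fun a h1 h2 x hx h3 => by
      obtain ⟨u, hu, rfl⟩ := n1 hx
      have b1 : um a.1 u = u⁻¹ := Units.ext (by
        obtain ⟨w, hw, w', hw', e⟩ := (qd s.lu s.sf).mem_iff.1 hu.1
        rw [um_val, star_eq_inv hu.2, e, (qd s.lu s.sf).star_eq hw hw', map_add, map_mul, t1 a h1 h2,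
          (resW_eq_one hH).1 h1 w hw, (resW_eq_one hH).1 h1 w' hw'])
      have b2 := conj_cj a.1 u
      rw [h3, mul_inv_cancel_right, b1, map_inv, eq_inv_iff_mul_eq_one, ← pow_two] at b2
      exact orderOf_eq_one_iff.1 (Nat.eq_one_of_dvd_coprimes (Nat.coprime_two_left.2 hodd)
        (orderOf_dvd_of_pow_eq_one b2) ((Subgroup.orderOf_dvd_natCard _ hx).trans n3)))
  refine ⟨n3, n7, ⟨_, cx.card_inf_mul, x4 ▸ mul_dvd_mul x3 x5⟩, l1, fun hq => l2 ?_, ?_, fun hK h3 => ?_⟩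
  · rw [(aut_cyclic s.sf.isF hq s.sf.card).1]
    exact hp.odd_of_ne_two (by have := s.three; omega)
  · obtain ⟨k, hk, e⟩ := cx.in.exists_index_eq
    obtain ⟨j, hj⟩ := n6
    have b1 := cx.in.half.d_pos
    rw [cx.in.card_H, hj] at b1
    exact ⟨k * j, hk.trans (Nat.le_mul_of_pos_right _ (Nat.pos_of_mul_pos_left b1)), by rw [e, hj]; ring⟩
  subst h3
  have : Fact (Nat.Prime 3) := ⟨hp⟩
  have p3 : p = 3 := by
    have := s.nontrivial
    have : Finite K := Nat.finite_of_card_ne_zero (by omega)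
    have := Fintype.ofFinite K
    have : Fact p.Prime := ⟨cx.prime⟩
    have : CharP K p := (CharP.charP_iff_prime_eq_zero cx.prime).2 ((algebraMap K (End K V)).injective (by
      rw [map_natCast, map_zero, ← map_natCast π, cx.char, map_zero]))
    have b1 := FiniteField.cast_card_eq_zero K
    rw [← Nat.card_eq_fintype_card, hK, CharP.cast_eq_zero_iff K p] at b1
    exact (Nat.prime_dvd_prime_iff_eq cx.prime hp).1 b1
  have y1 : (N.subgroupOf (H ⊓ F.S)).index = 3 := ((Nat.dvd_prime hp).1 x3).resolve_left fun e =>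
    cx.inf_not_comm fun a ha b hb => n5 a (Subgroup.relIndex_eq_one.1 e ha) b (Subgroup.relIndex_eq_one.1 e hb)
  have y2 : H ⊓ F.S ≤ G := inf_le_left.trans cx.H_le
  obtain ⟨y, hy⟩ := exists_prime_orderOf_dvd_card' (G := (H ⊓ F.S).subgroupOf G) 3 (by
    rw [In.card_sub y2, ← x4, y1]
    exact dvd_mul_right _ _)
  rw [← Subgroup.orderOf_coe] at hy
  have y3 : ∀ x : G, orderOf x = 3 → x.1 ∉ N := fun x hx e => n7 (by
    rw [← hx, ← Subgroup.orderOf_coe]
    exact Subgroup.orderOf_dvd_natCard _ e)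
  have y4 : ∀ x a : G, orderOf x = 3 → orderOf (a * x * a⁻¹) = 3 := fun x a hx =>
    (MulEquiv.orderOf_eq (MulAut.conj a) x).trans hx
  have y5 : ({x : G | orderOf x = 3} ∩ (H ⊓ F.S).subgroupOf G).ncard ≤ 2 * Nat.card N := by
    refine (Set.ncard_le_ncard (t := ((H ⊓ F.S).subgroupOf G : Set G) \ (N ⊓ (H ⊓ F.S)).subgroupOf G)
      fun x hx => ⟨hx.2, fun e => y3 x hx.1 e.1⟩).trans ?_
    rw [Set.ncard_sdiff fun _ hx => hx.2, ← Nat.card_coe_set_eq, ← Nat.card_coe_set_eq, SetLike.coe_sort_coe,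
      SetLike.coe_sort_coe, In.card_sub y2, In.card_sub (inf_le_right.trans y2), ← x4, y1,
      ← In.card_sub (inf_le_right (a := N)), Subgroup.inf_subgroupOf_right]
    have := Nat.le_of_dvd Nat.card_pos x5
    omega
  have y6 := cx.lie.as.sigma_set cx.lie.half ({x : G | orderOf x = 3} ∩ (H ⊓ F.S).subgroupOf G)
    ({x : G | orderOf x = 3} ∩ (H ⊓ F.S).subgroupOf G) (fun _ hx => hx.2.1) (j := 2) (c := 13) (fun g _ => by
      refine le_trans ?_ (cx.lie.half.ncard_le_ncard (s := 3) (by rw [cx.in.card_H, ← p3]; exact cx.not_dvd_d)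
        (X := {x : G | orderOf x = 3} ∩ (H ⊓ F.S).subgroupOf G) (R := Subgroup.zpowers y.1) (IsPGroup.of_card (n := 1) (by rw [Nat.card_zpowers, hy, pow_one]))
        (Subgroup.zpowers_le.2 y.2.1) (fun x hx a ha => ⟨y4 x a hx.1, cx.conj_inf ha hx.2⟩) g)
      exact (sub_one_le_ncard_orderOf hp (by rw [Nat.card_zpowers, hy])).trans
        (Set.ncard_le_ncard fun x hx => ⟨⟨hx.1, Subgroup.zpowers_le.2 y.2 hx.2⟩, hx.2⟩))
    (fun x hx t ht h1 => ⟨by simpa using y4 x t⁻¹ hx.1, h1, F.S.mul_mem (F.S.mul_mem (F.S.inv_mem ht) hx.2.2) ht⟩)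
    fun x hx => le_trans (Nat.card_le_card_of_injective
      (fun t => ⟨t.1.1, fun _ e => e ▸ congrArg Subtype.val (t.2.1 x rfl), t.2.2⟩)
      fun _ _ e => Subtype.ext (Subtype.ext (congrArg (fun z : ↥(Subgroup.centralizer {x.1} ⊓ F.S) => z.1) e)))
      (s.card_cent hK rfl F (x := x.1) hx.2.2 (by rw [← hx.1, ← Subgroup.orderOf_coe, pow_orderOf_eq_one]) (hH _ hx.2.1)
        fun e => y3 x hx.1 ⟨hx.2.1, fix_Zt s.lu e (x1 hx.2)⟩)
  rw [In.card_sub cx.S_le] at y6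
  exact y6.trans (Nat.mul_le_mul_right _ (Nat.mul_le_mul y5 y5))

end Sg

end Cfsg.Agent.TH.Cl.Fld
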