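import Cfsg.Agent.TH.Cl.FldLU.Core
import Cfsg.Agent.SB.Fld.Singer

/-!
# S3541, linear and unitary groups: the ring `W + W θ` and Eichler transformations over `W` (helper9)
-/

set_option autoImplicit false

namespace Cfsg.Agent.TH.Cl.Fld

open Cfsg.Agent.DS.Cl Cfsg.Agent.DS.Cl.Fwd Cfsg.Agent.SB.Cl Cfsg.Agent.SB.C2 Cfsg.Agent.SB.Fld Module
open scoped commutatorElement

variable {A : Type} [Ring A] [StarRing A]

omit [StarRing A] in
/-- the ring `W + W θ` -/
def Zt (W : Subring A) (θ : A) : Subring A := Subring.closure ((W : Set A) ∪ {θ})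

/-- `W` is a field of symmetric elements, `θ` commutes with `W`, has trace and norm in `W`, `θ - star θ` is a unit -/
structure Qd (W : Subring A) (θ : A) : Prop where
  isF : IsF W
  sym : ∀ x ∈ W, star x = x
  comm : ∀ x ∈ W, x * θ = θ * x
  tr : θ + star θ ∈ W
  nm : θ * star θ ∈ W
  unit : IsUnit (θ - star θ)

omit [StarRing A] in
theorem le_Zt {W : Subring A} {θ : A} : W ≤ Zt W θ := fun _ hx => Subring.subset_closure (Or.inl hx)

omit [StarRing A] in
theorem self_mem_Zt {W : Subring A} {θ : A} : θ ∈ Zt W θ := Subring.subset_closure (Or.inr rfl)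

omit [StarRing A] in
theorem Zt_le {W X : Subring A} {θ : A} (h1 : W ≤ X) (h2 : θ ∈ X) : Zt W θ ≤ X :=
  Subring.closure_le.2 (Set.union_subset h1 (Set.singleton_subset_iff.2 h2))

namespace Qd

variable {W : Subring A} {θ : A} (h : Qd W θ)
include h

theorem mem_iff {z : A} : z ∈ Zt W θ ↔ ∃ a ∈ W, ∃ b ∈ W, z = a + b * θ := by
  refine ⟨fun hz => ?_, fun ⟨a, ha, b, hb, e⟩ => e ▸ add_mem (le_Zt ha) (mul_mem (le_Zt hb) self_mem_Zt)⟩
  have h1 : θ * θ = (θ + star θ) * θ - θ * star θ := by rw [h.comm _ h.tr]; noncomm_ring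
  let X : Subring A :=
    { carrier := {z | ∃ a ∈ W, ∃ b ∈ W, z = a + b * θ}
      mul_mem' := by
        rintro _ _ ⟨a, ha, b, hb, rfl⟩ ⟨a', ha', b', hb', rfl⟩
        refine ⟨a * a' - b * b' * (θ * star θ), sub_mem (mul_mem ha ha') (mul_mem (mul_mem hb hb') h.nm),
          a * b' + b * a' + b * b' * (θ + star θ),
          add_mem (add_mem (mul_mem ha hb') (mul_mem hb ha')) (mul_mem (mul_mem hb hb') h.tr), ?_⟩
        have h2 : (a + b * θ) * (a' + b' * θ) = a * a' + a * b' * θ + b * (θ * a') + b * (θ * b') * θ := by noncomm_ring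
        rw [h2, ← h.comm _ ha', ← h.comm _ hb', mul_assoc b, mul_assoc b', h1]
        noncomm_ring
      one_mem' := ⟨1, one_mem _, 0, zero_mem _, by simp⟩
      add_mem' := by
        rintro _ _ ⟨a, ha, b, hb, rfl⟩ ⟨a', ha', b', hb', rfl⟩
        exact ⟨a + a', add_mem ha ha', b + b', add_mem hb hb', by noncomm_ring⟩
      zero_mem' := ⟨0, zero_mem _, 0, zero_mem _, by simp⟩
      neg_mem' := by
        rintro _ ⟨a, ha, b, hb, rfl⟩
        exact ⟨-a, neg_mem ha, -b, neg_mem hb, by noncomm_ring⟩ }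
  exact Zt_le (X := X) (fun x hx => ⟨x, hx, 0, zero_mem _, by simp⟩) ⟨0, zero_mem _, 1, one_mem _, by simp⟩ hz

theorem star_self : star θ ∈ Zt W θ := by
  simpa using sub_mem (le_Zt (θ := θ) h.tr) (self_mem_Zt (W := W))

theorem star_eq {a b : A} (ha : a ∈ W) (hb : b ∈ W) : star (a + b * θ) = a + b * star θ := by
  rw [star_add, h.sym a ha, h.comm b hb, star_mul, h.sym b hb]

theorem star_mem : ∀ z ∈ Zt W θ, star z ∈ Zt W θ := fun z hz => by
  obtain ⟨a, ha, b, hb, rfl⟩ := h.mem_iff.1 hz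
  rw [h.star_eq ha hb]
  exact add_mem (le_Zt ha) (mul_mem (le_Zt hb) h.star_self)

omit h [StarRing A] in
theorem comm_of {x : A} (h1 : ∀ w ∈ W, w * x = x * w) (h2 : θ * x = x * θ) : ∀ z ∈ Zt W θ, z * x = x * z :=
  fun _ hz => (Zt_le (X := Subring.centralizer {x}) (fun w hw _ hy => by rw [Set.mem_singleton_iff.1 hy, h1 w hw])
    (fun _ hy => by rw [Set.mem_singleton_iff.1 hy, h2]) hz x rfl).symm

theorem mul_comm : ∀ x ∈ Zt W θ, ∀ y ∈ Zt W θ, x * y = y * x := fun x hx y hy =>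
  comm_of (fun w hw => (comm_of (fun w' hw' => h.isF.comm w' hw' w hw) (h.comm w hw).symm y hy).symm)
    (comm_of h.comm rfl y hy).symm x hx

theorem sub_star {a b : A} (ha : a ∈ W) (hb : b ∈ W) : a + b * θ - star (a + b * θ) = b * (θ - star θ) := by
  rw [h.star_eq ha hb]; noncomm_ring

theorem mem_of_sym {z : A} (hz : z ∈ Zt W θ) (hs : star z = z) : z ∈ W := by
  obtain ⟨a, ha, b, hb, rfl⟩ := h.mem_iff.1 hz
  have h1 := h.sub_star ha hb
  rw [hs, sub_self] at h1
  rw [h.unit.mul_left_eq_zero.1 h1.symm, zero_mul, add_zero]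
  exact ha

theorem norm_mem {z : A} (hz : z ∈ Zt W θ) : star z * z ∈ W :=
  h.mem_of_sym (mul_mem (h.star_mem z hz) hz) (by rw [star_mul, star_star])

theorem trace_mem {z : A} (hz : z ∈ Zt W θ) : z + star z ∈ W :=
  h.mem_of_sym (add_mem hz (h.star_mem z hz)) (by rw [star_add, star_star, add_comm])

theorem card_eq : Nat.card (Zt W θ) = Nat.card W ^ 2 := by
  rw [pow_two, ← Nat.card_prod]
  refine (Nat.card_congr (Equiv.ofBijective (fun x : W × W => (⟨x.1 + x.2 * θ, h.mem_iff.2 ⟨_, x.1.2, _, x.2.2, rfl⟩⟩ :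
    Zt W θ)) ⟨fun x y e => ?_, fun z => ?_⟩)).symm
  · have h1 : (x.1 : A) + x.2 * θ = y.1 + y.2 * θ := congrArg Subtype.val e
    have h2 := h.sub_star x.1.2 x.2.2
    rw [h1, h.sub_star y.1.2 y.2.2] at h2
    have h3 := h.unit.mul_right_cancel h2
    rw [h3, add_left_inj] at h1
    exact Prod.ext (Subtype.ext h1) (Subtype.ext h3.symm)
  · obtain ⟨a, ha, b, hb, e⟩ := h.mem_iff.1 z.2
    exact ⟨(⟨a, ha⟩, ⟨b, hb⟩), Subtype.ext e.symm⟩

/-- elements of non-zero norm are units -/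
theorem exists_inv {z : A} (hz : z ∈ Zt W θ) (h0 : star z * z ≠ 0) : ∃ y ∈ Zt W θ, y * z = 1 ∧ z * y = 1 := by
  obtain ⟨w, hw, e⟩ := h.isF.inv _ (h.norm_mem hz) h0
  have h1 := mul_mem (le_Zt (θ := θ) hw) (h.star_mem z hz)
  have h2 : w * star z * z = 1 := by rw [mul_assoc, h.isF.comm w hw _ (h.norm_mem hz), e]
  exact ⟨_, h1, h2, by rw [h.mul_comm z hz _ h1, h2]⟩

theorem inv_mem [Nontrivial A] {u : Aˣ} (hu : (u : A) ∈ Zt W θ) : ((u⁻¹ : Aˣ) : A) ∈ Zt W θ := by
  obtain ⟨y, hy, -, e⟩ := h.exists_inv hu (u.isUnit.star.mul u.isUnit).ne_zero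
  rw [Units.inv_eq_of_mul_eq_one_right e]
  exact hy

variable [Finite A] [Nontrivial A]

/-- the norm is onto -/
theorem norm_surj {w : A} (hw : w ∈ W) : ∃ z ∈ Zt W θ, star z * z = w := by
  let := h.isF.isField.toField
  have := Fintype.ofFinite W
  rcases Nat.mod_two_eq_zero_or_one (Fintype.card W) with h2 | h2
  · obtain ⟨a, ha⟩ := FiniteField.isSquare_of_char_two (FiniteField.even_card_iff_char_two.2 h2) (⟨w, hw⟩ : W)
    exact ⟨a, le_Zt a.2, by rw [h.sym _ a.2]; exact (congrArg Subtype.val ha).symm⟩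
  · have h3 : θ - star θ ∈ Zt W θ := sub_mem self_mem_Zt h.star_self
    have h4 : star (θ - star θ) = -(θ - star θ) := by rw [star_sub, star_star, neg_sub]
    have h5 := h.norm_mem h3
    have h6 : (⟨_, h5⟩ : W) ≠ 0 := fun e => (h.unit.star.mul h.unit).ne_zero (congrArg Subtype.val e)
    obtain ⟨a, b, hab⟩ := FiniteField.exists_root_sum_quadratic (R := W)
      (f := Polynomial.X ^ 2 - Polynomial.C ⟨w, hw⟩) (g := Polynomial.C ⟨_, h5⟩ * Polynomial.X ^ 2)
      (Polynomial.degree_X_pow_sub_C (by norm_num) _) (Polynomial.degree_C_mul_X_pow 2 h6) h2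
    simp only [Polynomial.eval_sub, Polynomial.eval_pow, Polynomial.eval_X, Polynomial.eval_C,
      Polynomial.eval_mul] at hab
    have h7 : (a : A) ^ 2 - w + star (θ - star θ) * (θ - star θ) * (b : A) ^ 2 = 0 := congrArg Subtype.val hab
    refine ⟨a + (θ - star θ) * b, add_mem (le_Zt a.2) (mul_mem h3 (le_Zt b.2)), ?_⟩
    rw [star_add, star_mul, h.sym _ a.2, h.sym _ b.2, h4] at *
    have h8 := h.mul_comm _ h3 _ (le_Zt a.2)
    have h9 := h.mul_comm _ h3 _ (le_Zt b.2)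
    have h10 := h.isF.comm _ a.2 _ b.2
    generalize θ - star θ = t at h7 h8 h9
    have h11 : ((a : A) + b * -t) * (a + t * b) = a * a + a * t * b - b * (t * a) - b * t * t * b := by noncomm_ring
    have h12 : (b : A) * t * t * b = t * t * b ^ 2 := by rw [← h9, mul_assoc t, ← h9]; noncomm_ring
    rw [h11, h12, h8, ← mul_assoc, ← h10, mul_assoc (a : A) b, ← h9, ← mul_assoc, ← sub_eq_zero, ← h7]
    noncomm_ring

omit [Finite A] in
/-- a unitary element `l` such that `l - 1` is a unit -/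
theorem exists_uni (h4 : 4 ≤ Nat.card W) : ∃ l ∈ Zt W θ, ∃ k ∈ Zt W θ, star l * l = 1 ∧ (l - 1) * k = 1 := by
  obtain ⟨w, hw, h0⟩ : ∃ w ∈ W, star (w + 1 * θ) * (w + 1 * θ) ≠ 0 := by
    by_contra hc
    push Not at hc
    have h1 : ∀ w ∈ W, w * w + w * (θ + star θ) + star θ * θ = 0 := fun w hw => by
      rw [← hc w hw, h.star_eq hw (one_mem _), one_mul, one_mul, add_mul, mul_add, mul_add, mul_add,
        h.mul_comm _ h.star_self _ (le_Zt hw)]
      abel
    have h2 := h1 0 (zero_mem _)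
    have h3 := h1 1 (one_mem _)
    rw [zero_mul, zero_mul, zero_add, zero_add] at h2
    rw [h2, add_zero, one_mul, one_mul] at h3
    have h5 : ∀ w : W, w = 0 ∨ w = 1 := fun w => by
      by_cases e : (w : A) = 0
      · exact Or.inl (Subtype.ext e)
      · have h5 := h1 w w.2
        rw [h2, add_zero, ← mul_add, eq_neg_of_add_eq_zero_right h3] at h5
        exact Or.inr (Subtype.ext (add_neg_eq_zero.1 ((h.isF.isUnit w.2 e).mul_right_eq_zero.1 h5)))
    have h6 : Nat.card W ≤ Nat.card (Fin 2) := Nat.card_le_card_of_surjective (![0, 1] : Fin 2 → W) fun w => by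
      rcases h5 w with rfl | rfl
      exacts [⟨0, rfl⟩, ⟨1, rfl⟩]
    rw [Nat.card_fin] at h6
    omega
  have hz : w + 1 * θ ∈ Zt W θ := h.mem_iff.2 ⟨w, hw, 1, one_mem _, rfl⟩
  have h1 := h.sub_star hw (one_mem _)
  rw [one_mul (θ - _)] at h1
  generalize w + 1 * θ = z at h0 hz h1
  obtain ⟨y, hy, a1, a2⟩ := h.exists_inv hz h0
  obtain ⟨t, ht, a3, a4⟩ := h.exists_inv (sub_mem self_mem_Zt h.star_self) (h.unit.star.mul h.unit).ne_zero
  have a5 : star y * star z = 1 := by rw [← star_mul, a2, star_one]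
  have a6 := h.star_mem _ hy
  have a7 := h.star_mem _ hz
  refine ⟨z * star y, mul_mem hz a6, t * star z, mul_mem ht a7, ?_, ?_⟩
  · rw [star_mul, star_star, mul_assoc, ← mul_assoc (star z), h.mul_comm _ a7 _ hz, mul_assoc, ← mul_assoc, a1, one_mul,
      h.mul_comm _ a7 _ a6, a5]
  · rw [h.mul_comm _ ht _ a7, ← mul_assoc, sub_mul, mul_assoc z, a5, mul_one, one_mul, h1, a4]

end Qd

/-! ### Heisenberg groups -/

/-- `a x + b x* + k x* x` -/
def hs (x a b k : A) : A := a * x + b * star x + k * (star x * x)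

/-- `x` is nilpotent and commutes with the commutative star-closed subring `Z` -/
structure Hs (Z : Subring A) (x : A) : Prop where
  st : ∀ z ∈ Z, star z ∈ Z
  cc : ∀ a ∈ Z, ∀ b ∈ Z, a * b = b * a
  comm : ∀ z ∈ Z, z * x = x * z
  xx : x * x = 0
  xs : x * star x = 0

namespace Hs

variable {Z : Subring A} {x : A} (h : Hs Z x)
include h

theorem comm' {z : A} (hz : z ∈ Z) : z * star x = star x * z := by
  have h1 := congrArg star (h.comm _ (h.st z hz))
  rw [star_mul, star_mul, star_star] at h1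
  exact h1.symm

theorem mul {a' b' k' : A} (a b k : A) (ha : a' ∈ Z) (hb : b' ∈ Z) (hk : k' ∈ Z) :
    hs x a b k * hs x a' b' k' = b * a' * (star x * x) := by
  have h1 : star x * star x = 0 := by rw [← star_mul, h.xx, star_zero]
  have h2 : x * hs x a' b' k' = 0 := by
    rw [hs, mul_add, mul_add, ← mul_assoc, ← mul_assoc, ← mul_assoc, ← h.comm _ ha, ← h.comm _ hb, ← h.comm _ hk,
      mul_assoc, mul_assoc, mul_assoc, ← mul_assoc x, h.xx, h.xs]
    simp
  have h3 : star x * hs x a' b' k' = a' * (star x * x) := by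
    rw [hs, mul_add, mul_add, ← mul_assoc, ← mul_assoc, ← mul_assoc, ← h.comm' ha, ← h.comm' hb, ← h.comm' hk,
      mul_assoc, mul_assoc, mul_assoc, ← mul_assoc (star x) (star x), h1]
    simp
  conv_lhs => rw [hs, add_mul, add_mul, mul_assoc, mul_assoc, mul_assoc, mul_assoc, h2, h3]
  simp [mul_assoc]

theorem one_mul {a' b' k' : A} (a b k : A) (ha : a' ∈ Z) (hb : b' ∈ Z) (hk : k' ∈ Z) :
    (1 + hs x a b k) * (1 + hs x a' b' k') = 1 + hs x (a + a') (b + b') (k + k' + b * a') := by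
  rw [add_mul, mul_add, mul_add, h.mul a b k ha hb hk, hs, hs, hs]
  noncomm_ring

theorem star_hs {a b k : A} (ha : a ∈ Z) (hb : b ∈ Z) (hk : k ∈ Z) :
    star (hs x a b k) = hs x (star b) (star a) (star k) := by
  rw [hs, hs, star_add, star_add, star_mul, star_mul, star_mul, star_mul, star_star, ← h.comm' (h.st _ ha),
    ← h.comm _ (h.st _ hb), mul_assoc, ← h.comm _ (h.st _ hk), ← mul_assoc, ← h.comm' (h.st _ hk), mul_assoc]
  abel

theorem comm_hs {a b k z : A} (ha : a ∈ Z) (hb : b ∈ Z) (hk : k ∈ Z) (hz : z ∈ Z) : z * hs x a b k = hs x a b k * z := by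
  rw [hs, mul_add, mul_add, add_mul, add_mul, ← mul_assoc, ← mul_assoc, ← mul_assoc, h.cc _ hz _ ha, h.cc _ hz _ hb,
    h.cc _ hz _ hk, mul_assoc a, mul_assoc b, mul_assoc k, h.comm _ hz, h.comm' hz, ← mul_assoc z, h.comm' hz,
    mul_assoc (star x), h.comm _ hz]
  simp only [mul_assoc]

/-- the nilpotent ring -/
def J : NonUnitalSubring A where
  carrier := {j | ∃ a ∈ Z, ∃ b ∈ Z, ∃ k ∈ Z, j = hs x a b k}
  add_mem' := by
    rintro _ _ ⟨a, ha, b, hb, k, hk, rfl⟩ ⟨a', ha', b', hb', k', hk', rfl⟩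
    exact ⟨_, add_mem ha ha', _, add_mem hb hb', _, add_mem hk hk', by simp only [hs]; noncomm_ring⟩
  zero_mem' := ⟨0, zero_mem _, 0, zero_mem _, 0, zero_mem _, by simp [hs]⟩
  mul_mem' := by
    rintro _ _ ⟨a, -, b, hb, k, -, rfl⟩ ⟨a', ha', b', hb', k', hk', rfl⟩
    exact ⟨0, zero_mem _, 0, zero_mem _, _, mul_mem hb ha', by rw [h.mul a b k ha' hb' hk']; simp [hs]⟩
  neg_mem' := by
    rintro _ ⟨a, ha, b, hb, k, hk, rfl⟩
    exact ⟨_, neg_mem ha, _, neg_mem hb, _, neg_mem hk, by simp only [hs]; noncomm_ring⟩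

theorem nil : ∀ j ∈ h.J, IsNilpotent j := by
  rintro _ ⟨a, ha, b, hb, k, hk, rfl⟩
  refine ⟨3, ?_⟩
  have h1 := h.mul 0 0 (b * a) ha hb hk
  rw [pow_succ, pow_two, h.mul a b k ha hb hk]
  simpa [hs] using h1

theorem uni {c a : A} (hc : c ∈ Z) (h1 : c + star c = 1) (ha : a ∈ Z) :
    (1 + hs x a (-star a) (-(c * (star a * a)))) * star (1 + hs x a (-star a) (-(c * (star a * a)))) = 1 := by
  have h2 := mul_mem (h.st a ha) ha
  rw [star_add, star_one, h.star_hs ha (neg_mem (h.st a ha)) (neg_mem (mul_mem hc h2)),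
    h.one_mul _ _ _ (h.st _ (neg_mem (h.st a ha))) (h.st a ha) (h.st _ (neg_mem (mul_mem hc h2))), star_neg, star_neg,
    star_star, star_mul, star_mul, star_star, h.cc _ h2 _ (h.st c hc), neg_mul_neg, ← neg_add, ← add_mul, h1]
  simp [hs]

/-- the Eichler transformation of `a x` -/
noncomputable def ei [Finite A] {c a : A} (hc : c ∈ Z) (h1 : c + star c = 1) (ha : a ∈ Z) : Aˣ := mkU _ (h.uni hc h1 ha)

theorem ei_val [Finite A] {c a : A} (hc : c ∈ Z) (h1 : c + star c = 1) (ha : a ∈ Z) :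
    (h.ei hc h1 ha : A) = 1 + hs x a (-star a) (-(c * (star a * a))) := rfl

theorem ei_inv [Finite A] {c a : A} (hc : c ∈ Z) (h1 : c + star c = 1) (ha : a ∈ Z) :
    (((h.ei hc h1 ha)⁻¹ : Aˣ) : A) = 1 + hs x (-a) (star a) (-(star c * (star a * a))) := by
  have h2 := mul_mem (h.st a ha) ha
  rw [star_eq_inv (h.uni hc h1 ha), ei_val, star_add, star_one,
    h.star_hs ha (neg_mem (h.st a ha)) (neg_mem (mul_mem hc h2)), star_neg, star_neg, star_star, star_mul, star_mul,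
    star_star, h.cc _ h2 _ (h.st c hc)]

end Hs

variable [Finite A] [Nontrivial A] {F : FR A} {W : Subring A} {θ : A}

theorem skew_mem (ss : SS A) (hL : F.L = Lmax A) (h : IsF W) (hW : ∀ x ∈ W, star x = x) (h4 : 4 ≤ Nat.card W) {l : A}
    (h3 : l ∈ Subring.centralizer (W : Set A)) (hl : l + star l = 1) {u : Aˣ}
    (hu : (u : A) ∈ Subring.centralizer (W : Set A)) (h1 : (u : A) * star (u : A) = 1)
    (h2 : ((u : A) - 1) * (u - 1) = 0) : u ∈ (⁅F.Iso, F.Iso⁆ : Subgroup Aˣ) := by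
  obtain ⟨s, hs⟩ : ∃ s, (u : A) = 1 + s := ⟨u - 1, by abel⟩
  rw [hs, add_sub_cancel_left] at h2
  have a1 : s ∈ Subring.centralizer (W : Set A) := by simpa [hs] using sub_mem hu (one_mem _)
  have a2 : star s = -s := by
    have b1 : (u : A) * (1 - s) = 1 := by rw [hs, add_mul, mul_sub, mul_sub, h2]; simp
    have b2 := u.isUnit.mul_left_cancel (h1.trans b1.symm)
    rw [hs, star_add, star_one, sub_eq_add_neg, add_right_inj] at b2
    exact b2
  obtain ⟨y, hy⟩ := ss.regular s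
  have a3 := one_add_mem hL h hW h4 a1 (avg_mem h y) h3 hl a2 h2
    (by rw [← avg_mul_left a1, ← avg_mul_right h a1, hy, avg_of_mem h a1])
  rwa [show mkU _ (uni_one_add a2 h2) = u from Units.ext hs.symm] at a3

/-- Eichler transformations over `W + W θ` are products of commutators -/
theorem ei_mem (ss : SS A) (hL : F.L = Lmax A) (hq : Qd W θ) (h4 : 4 ≤ Nat.card W) {x e c a : A} (h : Hs (Zt W θ) x)
    (hc : c ∈ Zt W θ) (h1 : c + star c = 1) (ha : a ∈ Zt W θ) (e1 : ∀ z ∈ Zt W θ, z * e = e * z) (e2 : star e = e)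
    (e3 : e * e = e) (e4 : e * x = x) (e5 : x * e = 0) : h.ei hc h1 ha ∈ (⁅F.Iso, F.Iso⁆ : Subgroup Aˣ) := by
  obtain ⟨l, hl, k, hk, l1, l2⟩ := hq.exists_uni h4
  have hl' := hq.star_mem l hl
  have a1 : star (1 + (l - 1) * e) = 1 + (star l - 1) * e := by
    rw [star_add, star_one, star_mul, e2, star_sub, star_one, e1 _ (sub_mem hl' (one_mem _))]
  have a2 : (1 + (l - 1) * e) * star (1 + (l - 1) * e) = 1 := by
    have b1 : (1 + (l - 1) * e) * (1 + (star l - 1) * e) =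
      1 + (l - 1) * e + (star l - 1) * e + (l - 1) * (e * (star l - 1)) * e := by noncomm_ring
    have b2 : (l - 1) * ((star l - 1) * e) * e = (l * star l - l - star l + 1) * (e * e) := by noncomm_ring
    rw [a1, b1, ← e1 _ (sub_mem hl' (one_mem _)), b2, e3, hq.mul_comm _ hl _ hl', l1]
    noncomm_ring
  have e6 : star x * e = star x := by rw [← e2, ← star_mul, e4]
  have e7 : e * star x = 0 := by rw [← e2, ← star_mul, e5, star_zero]
  have a3 : ∀ a ∈ Zt W θ, ∀ b ∈ Zt W θ, ∀ k ∈ Zt W θ,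
      (1 + (l - 1) * e) * hs x a b k * star (1 + (l - 1) * e) = hs x (l * a) (star l * b) k := by
    intro a ha b hb k hk
    have b1 : e * hs x a b k = a * x := by
      rw [hs, mul_add, mul_add, ← mul_assoc, ← mul_assoc, ← mul_assoc, ← e1 _ ha, ← e1 _ hb, ← e1 _ hk, mul_assoc,
        mul_assoc, mul_assoc, ← mul_assoc e, e4, e7]
      simp
    have b2 : ∀ a, hs x a b k * e = b * star x := fun a => by
      rw [hs, add_mul, add_mul, mul_assoc, mul_assoc, mul_assoc, mul_assoc, e5, e6]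
      simp
    have b3 : (1 + (l - 1) * e) * hs x a b k = hs x (l * a) b k := by
      rw [add_mul, mul_assoc, b1, hs, hs]; noncomm_ring
    rw [b3, a1, mul_add, ← mul_assoc, ← h.comm_hs (mul_mem hl ha) hb hk (sub_mem hl' (one_mem _)), mul_assoc, b2, hs, hs]
    noncomm_ring
  have hka := mul_mem hk ha
  have a4 := Subgroup.commutator_mem_commutator (mem_Iso_max hL (u := mkU _ a2) a2)
    (mem_Iso_max hL (u := h.ei hc h1 hka) (h.uni hc h1 hka))
  have a5 : l * (k * a) + -(k * a) = a := by rw [← sub_eq_add_neg, ← sub_one_mul, ← mul_assoc, l2, one_mul]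
  have a6 : star l * -star (k * a) + star (k * a) = -star a := by
    rw [mul_neg, hq.mul_comm _ hl' _ (hq.star_mem _ hka), ← star_mul, ← star_neg, ← star_add, ← star_neg]
    congr 1
    conv_rhs => rw [← a5]
    abel
  have n1 := mul_mem (hq.star_mem _ hka) hka
  obtain ⟨k₁, hk₁, a7⟩ : ∃ k₁ ∈ Zt W θ, ((⁅mkU _ a2, h.ei hc h1 hka⁆ : Aˣ) : A) = 1 + hs x a (-star a) k₁ := by
    refine ⟨_, add_mem (add_mem (neg_mem (mul_mem hc n1)) (neg_mem (mul_mem (hq.star_mem _ hc) n1)))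
      (mul_mem (mul_mem hl' (neg_mem (hq.star_mem _ hka))) (neg_mem hka)), ?_⟩
    rw [commutatorElement_def, Units.val_mul, Units.val_mul, Units.val_mul, star_eq_inv (u := mkU _ a2) a2, mkU_val,
      h.ei_val, h.ei_inv, mul_add (1 + (l - 1) * e), mul_one, add_mul (1 + (l - 1) * e), a2, a3 _ hka _ (neg_mem (hq.star_mem _ hka)) _
        (neg_mem (mul_mem hc n1)), h.one_mul _ _ _ (neg_mem hka) (hq.star_mem _ hka)
        (neg_mem (mul_mem (hq.star_mem _ hc) n1)), a5, a6]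
  have n2 := neg_mem (mul_mem hc (mul_mem (hq.star_mem _ ha) ha))
  have a8 : ((⁅mkU _ a2, h.ei hc h1 hka⁆⁻¹ * h.ei hc h1 ha : Aˣ) : A) =
      1 + hs x 0 0 (-(c * (star a * a)) - k₁) := by
    rw [Units.val_mul, Units.inv_mul_eq_iff_eq_mul, a7, h.one_mul _ _ _ (zero_mem _) (zero_mem _) (sub_mem n2 hk₁),
      h.ei_val]
    simp
  have a9 := skew_mem ss hL hq.isF hq.sym h4 (fun w hw => hq.mul_comm _ (le_Zt hw) _ hc) h1
    (u := ⁅mkU _ a2, h.ei hc h1 hka⁆⁻¹ * h.ei hc h1 ha)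
    (fun w hw => by rw [a8, mul_add, add_mul, h.comm_hs (zero_mem _) (zero_mem _) (sub_mem n2 hk₁) (le_Zt hw)]; simp)
    (FR.Iso.ms (mul_mem (inv_mem (F.comm_le_Iso a4)) (mem_Iso_max hL (h.uni hc h1 ha))))
    (by rw [a8, add_sub_cancel_left, h.mul _ _ _ (zero_mem _) (zero_mem _) (sub_mem n2 hk₁)]; simp)
  have a10 := mul_mem a4 a9
  rwa [mul_inv_cancel_left] at a10

end Cfsg.Agent.TH.Cl.Fld
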